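import Cfsg.Agent.ThreePrime74.Glue
import Cfsg.Agent.ThreePrime91.SzFacts
import Cfsg.Agent.Lib.Suzuki.Sylow

/-!
The facts on Suzuki groups used by the geometry, and the Glue piece.
-/

set_option autoImplicit false

namespace Cfsg.Agent.ThreePrime74

open Subgroup Cfsg.Agent.Suzuki ThreePrime72

universe u

section

variable {L L' : Type*} [Group L] [Group L']

theorem mem_normalizer_iff_cj [Finite L] {Z : Subgroup L} {g : L} :
    g ∈ normalizer (Z : Set L) ↔ cj Z g = Z := by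
  rw [mem_normalizer_iff_map_conj_eq]
  rfl

end

section Model

variable {F : Type} [Field F] [Fintype F] {m : ℕ} (hF : Fintype.card F = 2 ^ (2 * m + 1))
include hF

theorem model_card (hm : 1 ≤ m) :
    {Y : Subgroup (Cfsg.Sz F m) | ∃ l, cj (ZSub hF) l = Y}.ncard =
      Nat.card (ZSub hF) ^ 2 + 1 := by
  rw [card_ZSub hF, ← ThreePrime91.index_normalizer_ZSub hF hm,
    show {Y : Subgroup (Cfsg.Sz F m) | ∃ l, cj (ZSub hF) l = Y} =
      Set.range fun l => cj (ZSub hF) l from rfl, ← Nat.card_coe_set_eq]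
  set M := normalizer (ZSub hF : Set (Cfsg.Sz F m))
  have hiff : ∀ a b : Cfsg.Sz F m, a⁻¹ * b ∈ M ↔ cj (ZSub hF) a = cj (ZSub hF) b := fun a b => by
    rw [mem_normalizer_iff_cj, cj_mul]
    constructor
    · intro h
      conv_lhs => rw [← h, ← cj_mul, mul_inv_cancel, cj_one]
    · intro h
      rw [← h, ← cj_mul, inv_mul_cancel, cj_one]
  symm
  refine Nat.card_eq_of_bijective (Quotient.lift
    (fun l => (⟨cj (ZSub hF) l, l, rfl⟩ : Set.range fun l => cj (ZSub hF) l))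
    fun a b h => Subtype.ext ((hiff a b).1 (QuotientGroup.leftRel_apply.1 h))) ⟨?_, ?_⟩
  · intro a b
    induction a using QuotientGroup.induction_on with
    | H a =>
      induction b using QuotientGroup.induction_on with
      | H b => exact fun h => QuotientGroup.eq.2 ((hiff a b).2 (congrArg Subtype.val h))
  · rintro ⟨_, l, rfl⟩
    exact ⟨(l : Cfsg.Sz F m ⧸ M), rfl⟩

theorem model_facts (hm : 1 ≤ m) :
    (∀ l k : Cfsg.Sz F m, cj (ZSub hF) l ≠ ZSub hF →
      ∃ g ∈ ZSub hF ⊔ cj (ZSub hF) l, cj (ZSub hF) g = cj (ZSub hF) k) ∧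
    (∀ x ∈ ZSub hF, ∀ y ∈ ZSub hF, x ≠ 1 → y ≠ 1 →
      ∃ l : Cfsg.Sz F m, cj (ZSub hF) l = ZSub hF ∧ l * x * l⁻¹ = y) ∧
    ∀ l k : Cfsg.Sz F m, cj (ZSub hF) l ≠ ZSub hF → cj (ZSub hF) k ≠ ZSub hF →
      ∃ c : Cfsg.Sz F m, (∀ x ∈ ZSub hF, c * x * c⁻¹ = x) ∧
        cj (ZSub hF) (c * l) = cj (ZSub hF) k := by
  refine ⟨fun l k hl => ⟨k, ?_, rfl⟩, fun x hx y hy hx1 hy1 => ?_, fun l k hl hk => ?_⟩
  · rw [show ZSub hF ⊔ cj (ZSub hF) l = ⊤ from
      ThreePrime91.sup_map_eq_top hF hm (fun h => hl (mem_normalizer_iff_cj.1 h))]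
    trivial
  · obtain ⟨a, ha⟩ := ThreePrime91.exists_T_conj hF hx hx1
    obtain ⟨b, hb⟩ := ThreePrime91.exists_T_conj hF hy hy1
    refine ⟨T hF b * (T hF a)⁻¹, mem_normalizer_iff_cj.1 ?_, ?_⟩
    · rw [ThreePrime91.mem_normalizer_ZSub hF hm, mul_smul]
      have h : ∀ k : Fˣ, T hF k • Cfsg.suzukiPointInfinity F = Cfsg.suzukiPointInfinity F :=
        fun k => (ThreePrime91.mem_normalizer_ZSub hF hm).1 (mem_normalizer_iff.2 fun z =>
          ⟨ThreePrime91.T_conj_mem hF k, fun hz => by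
            have hle : (ZSub hF).map (MulAut.conj (T hF k)).toMonoidHom = ZSub hF :=
              eq_of_le_of_card_ge (by rintro _ ⟨w, hw, rfl⟩; exact ThreePrime91.T_conj_mem hF k hw)
                (card_map_of_injective (MulAut.conj (T hF k)).injective).ge
            rw [← hle] at hz
            obtain ⟨w, hw, e⟩ := hz
            have e' : T hF k * w * (T hF k)⁻¹ = T hF k * z * (T hF k)⁻¹ := e
            simp only [mul_left_inj, mul_right_inj] at e'
            exact e' ▸ hw⟩)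
      rw [show (T hF a)⁻¹ • Cfsg.suzukiPointInfinity F = Cfsg.suzukiPointInfinity F by
        rw [inv_smul_eq_iff, h], h]
    · rw [← hb, ← ha]
      group
  · obtain ⟨u, hu, hn⟩ := ThreePrime91.exists_U_eq hF hm
      (fun h => hl (mem_normalizer_iff_cj.1 h)) (fun h => hk (mem_normalizer_iff_cj.1 h))
    refine ⟨u, fun x hx => ?_, ?_⟩
    · by_cases hx1 : x = 1
      · rw [hx1]; group
      · rw [← ThreePrime91.centralizer_z hF hm hx hx1, mem_centralizer_singleton_iff] at hu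
        rw [hu]; group
    · have h := mem_normalizer_iff_cj.1 hn
      conv_rhs => rw [show k = u * l * ((u * l)⁻¹ * k) by group, cj_mul, h]

/-- The involutions of a Sylow 2-subgroup with `1` are a conjugate of `ZSub`. -/
theorem model_exists_conj (hm : 1 ≤ m) {V : Subgroup (Cfsg.Sz F m)}
    {P : Sylow 2 (Cfsg.Sz F m)}
    (hV : ∀ x, x ∈ V ↔ x ∈ (P : Subgroup (Cfsg.Sz F m)) ∧ x * x = 1) :
    ∃ g : Cfsg.Sz F m, cj V g = ZSub hF := by
  haveI : Fact (Nat.Prime 2) := ⟨Nat.prime_two⟩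
  let S := (isPGroup_USub hF).toSylow (index_USub_odd hF hm)
  obtain ⟨g, hg⟩ := MulAction.exists_smul_eq (Cfsg.Sz F m) P S
  have hPS : cj (P : Subgroup (Cfsg.Sz F m)) g = USub hF := by
    rw [show USub hF = (S : Subgroup (Cfsg.Sz F m)) from (IsPGroup.toSylow_coe _ _).symm, ← hg]
    rfl
  refine ⟨g, ?_⟩
  ext x
  rw [mem_cj, hV, ← mem_cj, hPS]
  constructor
  · rintro ⟨h1, h2⟩
    refine ThreePrime91.mem_ZSub_of_sq hF h1 ?_
    calc x * x = g * (g⁻¹ * x * g * (g⁻¹ * x * g)) * g⁻¹ := by group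
      _ = 1 := by rw [h2]; group
  · intro hx
    refine ⟨ThreePrime91.ZSub_le_USub hF hx, ?_⟩
    obtain ⟨b, rfl⟩ := hx
    rw [show g⁻¹ * U hF 0 b * g * (g⁻¹ * U hF 0 b * g) = g⁻¹ * (U hF 0 b * U hF 0 b) * g by group,
      KnownSimple.OutSz.U_sq, sig_zero, zero_mul, U_zero]
    group

end Model

/-- The facts on Suzuki groups. -/
theorem szLineFacts : SzLineFacts.{u} := by
  intro L _ U hU
  obtain ⟨hL, P, hP⟩ := hU
  obtain ⟨F, _, _, m, hm, hF, ⟨e0⟩⟩ := ThreePrime91.exists_model hL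
  haveI : Fact (Nat.Prime 2) := ⟨Nat.prime_two⟩
  haveI : Finite L := Finite.of_equiv _ e0.symm.toEquiv
  have hsurj : Function.Surjective e0.toMonoidHom := e0.surjective
  have hV : ∀ x, x ∈ U.map e0.toMonoidHom ↔
      x ∈ ((P.mapSurjective hsurj : Sylow 2 (Cfsg.Sz F m)) : Subgroup (Cfsg.Sz F m)) ∧
        x * x = 1 := by
    intro x
    obtain ⟨y, rfl⟩ := hsurj x
    have hinj0 : Function.Injective e0.toMonoidHom := e0.injective
    have h1 : e0.toMonoidHom y ∈ ((P.mapSurjective hsurj : Sylow 2 (Cfsg.Sz F m)) :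
        Subgroup (Cfsg.Sz F m)) ↔ y ∈ (P : Subgroup L) := by
      rw [Sylow.coe_mapSurjective]
      exact mem_map_iff_mem hinj0
    rw [mem_map_iff_mem hinj0, hP, h1, ← map_mul, map_eq_one_iff _ hinj0]
  obtain ⟨g, hg⟩ := model_exists_conj hF hm hV
  set e : L ≃* Cfsg.Sz F m := e0.trans (MulAut.conj g)
  have he : U.map e.toMonoidHom = ZSub hF := by
    rw [← hg, cj, Subgroup.map_map]
    rfl
  have hcj : ∀ l, (cj U l).map e.toMonoidHom = cj (ZSub hF) (e l) := fun l => by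
    rw [map_cj, he]
    rfl
  have hinj : Function.Injective (Subgroup.map e.toMonoidHom) := map_injective e.injective
  have hiff : ∀ l, cj U l ≠ U ↔ cj (ZSub hF) (e l) ≠ ZSub hF := fun l => by
    rw [← hcj, ← he, hinj.ne_iff]
  obtain ⟨hgen, htor, hreg⟩ := model_facts hF hm
  refine ⟨?_, fun l k hl => ?_, fun x hx y hy hx1 hy1 => ?_, fun l k hl hk => ?_⟩
  · rw [← card_map_of_injective (f := e.toMonoidHom) e.injective, he, ← model_card hF hm,
      ← Set.ncard_image_of_injective {Y | ∃ l, cj U l = Y} hinj]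
    congr 1
    ext Y
    constructor
    · rintro ⟨_, ⟨l, rfl⟩, rfl⟩
      exact ⟨e l, (hcj l).symm⟩
    · rintro ⟨k, rfl⟩
      obtain ⟨l, rfl⟩ := e.surjective k
      exact ⟨cj U l, ⟨l, rfl⟩, hcj l⟩
  · obtain ⟨w, hw, hwk⟩ := hgen (e l) (e k) ((hiff l).1 hl)
    obtain ⟨v, rfl⟩ := e.surjective w
    refine ⟨v, ?_, hinj (by rw [hcj, hcj, hwk])⟩
    rw [← hcj, ← he, ← Subgroup.map_sup] at hw
    exact (mem_map_iff_mem e.injective).1 hw
  · have hmem : ∀ z ∈ U, e z ∈ ZSub hF := fun z hz => he ▸ mem_map_of_mem e.toMonoidHom hz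
    obtain ⟨l, hl, hlx⟩ := htor (e x) (hmem x hx) (e y) (hmem y hy)
      (fun h => hx1 (e.injective (h.trans (map_one e).symm)))
      (fun h => hy1 (e.injective (h.trans (map_one e).symm)))
    obtain ⟨v, rfl⟩ := e.surjective l
    refine ⟨v, hinj (by rw [hcj, hl, he]), e.injective ?_⟩
    rw [map_mul, map_mul, map_inv, hlx]
  · obtain ⟨c, hc, hcl⟩ := hreg (e l) (e k) ((hiff l).1 hl) ((hiff k).1 hk)
    obtain ⟨v, rfl⟩ := e.surjective c
    refine ⟨v, fun x hx => e.injective ?_, hinj (by rw [hcj, hcj, map_mul, hcl])⟩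
    rw [map_mul, map_mul, map_inv]
    exact hc _ (he ▸ mem_map_of_mem e.toMonoidHom hx)

/-- Piece Glue. -/
theorem glue (hx : XDataStmt.{u}) (hfix : FixTransStmt.{u}) (hloc : BadLocalStmt.{u}) :
    GlueStmt.{u} :=
  glue_of szLineFacts hx hfix hloc

end Cfsg.Agent.ThreePrime74
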