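import Cfsg.Agent.ThreePrime74.Geometry

/-!
The geometry configuration from a subgroup `A` of order `q` whose conjugates are the points: the
conditions on a bad involution are only asked at one point, `torus`, `regular` and `meet` are
derived.
-/

set_option autoImplicit false

namespace Cfsg.Agent.ThreePrime74

open MulAction

variable {G Ω : Type*} [Group G] [MulAction G Ω]

/-- The nontrivial elements of the conjugate of `A` attached to the point `a`. -/
def centreSet (A : Subgroup G) (o a : Ω) : Set G :=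
  {x | x ≠ 1 ∧ ∃ g : G, g • o = a ∧ g⁻¹ * x * g ∈ A}

section

variable {A : Subgroup G} {o : Ω}

theorem mem_centreSet_iff (hstab : stabilizer G o = Subgroup.normalizer (A : Set G)) (g : G)
    (x : G) : x ∈ centreSet A o (g • o) ↔ x ≠ 1 ∧ g⁻¹ * x * g ∈ A := by
  constructor
  · rintro ⟨hx, h, hh, hA⟩
    have hm : g⁻¹ * h ∈ Subgroup.normalizer (A : Set G) := by
      rw [← hstab, mem_stabilizer_iff, mul_smul, hh, inv_smul_smul]
    refine ⟨hx, ?_⟩
    have := (Subgroup.mem_normalizer_iff.1 hm _).1 hA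
    rwa [show g⁻¹ * h * (h⁻¹ * x * h) * (g⁻¹ * h)⁻¹ = g⁻¹ * x * g by group] at this
  · exact fun h => ⟨h.1, g, rfl, h.2⟩

theorem centreSet_base (hstab : stabilizer G o = Subgroup.normalizer (A : Set G)) :
    centreSet A o o = {x | x ∈ A ∧ x ≠ 1} := by
  ext x
  have := mem_centreSet_iff hstab 1 x
  rw [one_smul] at this
  rw [this]
  simp [and_comm]

theorem conj_mem_centreSet (g : G) {a : Ω} {x : G} (hx : x ∈ centreSet A o a) :
    g * x * g⁻¹ ∈ centreSet A o (g • a) := by
  obtain ⟨h1, h, rfl, h2⟩ := hx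
  refine ⟨by simpa using h1, g * h, by rw [mul_smul], ?_⟩
  rwa [show (g * h)⁻¹ * (g * x * g⁻¹) * (g * h) = h⁻¹ * x * h by group]

end

/-- The conditions at the base point. -/
structure BaseData (A : Subgroup G) (o : Ω) (e : ℕ) : Prop where
  e_odd : Odd e
  e_ge : 3 ≤ e
  stab : stabilizer G o = Subgroup.normalizer (A : Set G)
  trans : ∀ a b : Ω, ∃ g : G, g • a = b
  card_A : Nat.card A = 2 ^ e
  comm : ∀ x ∈ A, ∀ y ∈ A, x * y = y * x
  sq : ∀ x ∈ A, x * x = 1
  ti : ∀ x ∈ A, x ≠ 1 → ∀ g : G, g⁻¹ * x * g ∈ Subgroup.normalizer (A : Set G) →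
    g ∈ Subgroup.normalizer (A : Set G)
  odd : ∀ x ∈ A, ∀ y ∈ A, x ≠ 1 → y ≠ 1 → ∀ g : G, g ∉ Subgroup.normalizer (A : Set G) →
    Odd (orderOf (x * (g * y * g⁻¹)))
  moves : ∀ {t : G}, BadInv Ω t → t • o = o → ∃ a : Ω, t • a ≠ a
  central : ∀ {t : G}, BadInv Ω t → t • o = o → ∀ x ∈ A, t * x = x * t
  card_fix : ∀ {t : G}, BadInv Ω t → t • o = o → (fixedBy Ω t).ncard = (2 ^ e) ^ 2 + 1
  torus : ∀ {t : G}, BadInv Ω t → t • o = o → ∀ x ∈ A, ∀ y ∈ A, x ≠ 1 → y ≠ 1 →
    ∃ g : G, g * t = t * g ∧ g • o = o ∧ g * x * g⁻¹ = y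
  regular : ∀ {t : G} {a b : Ω}, BadInv Ω t → t • o = o → t • a = a → t • b = b → a ≠ o → b ≠ o →
    ∃ g : G, g * t = t * g ∧ (∀ x ∈ A, g * x = x * g) ∧ g • a = b
  spans : ∀ {t : G} {d a : Ω}, BadInv Ω t → t • o = o → t • d = d → d ≠ o → t • a = a →
    ∃ g ∈ Subgroup.closure (centreSet A o o ∪ centreSet A o d), g • o = a
  three : ¬ 3 ∣ Nat.card G

/-- A bad involution fixing `g • o`, moved to the base point. -/
theorem base_conj {t g : G} {o : Ω} (h : t • g • o = g • o) : (g⁻¹ * t * g) • o = o := by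
  rw [mul_smul, mul_smul, h, inv_smul_smul]

namespace BaseData

variable {A : Subgroup G} {o : Ω} {e : ℕ}

theorem comm_fix (D : BaseData A o e) {t : G} {c : Ω} {x : G} (ht : BadInv Ω t) (hc : t • c = c)
    (hx : x ∈ centreSet A o c) : t * x = x * t := by
  obtain ⟨g, rfl⟩ := D.trans o c
  obtain ⟨-, hA⟩ := (mem_centreSet_iff D.stab g x).1 hx
  have ht0 : BadInv Ω (g⁻¹ * t * g) := by simpa using ht.conj g⁻¹
  have h := D.central ht0 (base_conj hc) _ hA
  calc t * x = g * ((g⁻¹ * t * g) * (g⁻¹ * x * g)) * g⁻¹ := by group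
    _ = x * t := by rw [h]; group

theorem closure_comm (D : BaseData A o e) {t : G} {c d : Ω} (ht : BadInv Ω t) (hc : t • c = c)
    (hd : t • d = d) {g : G} (hg : g ∈ Subgroup.closure (centreSet A o c ∪ centreSet A o d)) :
    g * t = t * g := by
  have hle : Subgroup.closure (centreSet A o c ∪ centreSet A o d) ≤
      Subgroup.centralizer ({t} : Set G) := by
    rw [Subgroup.closure_le]
    rintro x (hx | hx) <;> rw [SetLike.mem_coe, Subgroup.mem_centralizer_singleton_iff]
    · exact (D.comm_fix ht hc hx).symm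
    · exact (D.comm_fix ht hd hx).symm
  exact (Subgroup.mem_centralizer_singleton_iff.1 (hle hg))

theorem torus_general (D : BaseData A o e) {t : G} {c d : Ω} {x y : G} (ht : BadInv Ω t)
    (hc : t • c = c) (hd : t • d = d) (hx : x ∈ centreSet A o c) (hy : y ∈ centreSet A o d) :
    ∃ g : G, g * t = t * g ∧ g • c = d ∧ g * x * g⁻¹ = y := by
  obtain ⟨g, rfl⟩ := D.trans o c
  set t0 := g⁻¹ * t * g with ht0'
  have ht0 : BadInv Ω t0 := by simpa [ht0'] using ht.conj g⁻¹
  have ho : t0 • o = o := base_conj hc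
  obtain ⟨d0, rfl⟩ : ∃ d0, g • d0 = d := ⟨g⁻¹ • d, smul_inv_smul g d⟩
  have hd0 : t0 • d0 = d0 := by rw [ht0', mul_smul, mul_smul, hd, inv_smul_smul]
  obtain ⟨h, hh, hho⟩ : ∃ h : G, h * t0 = t0 * h ∧ h • o = d0 := by
    by_cases hd0o : d0 = o
    · exact ⟨1, by simp, by rw [one_smul, hd0o]⟩
    · obtain ⟨h, hh, hho⟩ := D.spans ht0 ho hd0 hd0o hd0
      exact ⟨h, D.closure_comm ht0 ho hd0 hh, hho⟩
  have hgh : (g * h) • o = g • d0 := by rw [mul_smul, hho]
  obtain ⟨hx1, hxA⟩ := (mem_centreSet_iff D.stab g x).1 hx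
  rw [← hgh, mem_centreSet_iff D.stab (g * h)] at hy
  obtain ⟨k, hk, hko, hkx⟩ := D.torus ht0 ho _ hxA _ hy.2
    (fun e => hx1 (by rw [show x = g * (g⁻¹ * x * g) * g⁻¹ by group, e]; group))
    (fun e => hy.1 (by rw [show y = g * h * ((g * h)⁻¹ * y * (g * h)) * (g * h)⁻¹ by group, e]; group))
  refine ⟨g * h * k * g⁻¹, ?_, ?_, ?_⟩
  · calc g * h * k * g⁻¹ * t = g * (h * (k * t0)) * g⁻¹ := by rw [ht0']; group
      _ = g * ((h * t0) * k) * g⁻¹ := by rw [hk]; group
      _ = t * (g * h * k * g⁻¹) := by rw [hh, ht0']; group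
  · simp only [mul_smul, inv_smul_smul, hko, hho]
  · calc g * h * k * g⁻¹ * x * (g * h * k * g⁻¹)⁻¹
        = (g * h) * (k * (g⁻¹ * x * g) * k⁻¹) * (g * h)⁻¹ := by group
      _ = y := by rw [hkx]; group

theorem regular_general (D : BaseData A o e) {t : G} {c a b : Ω} (ht : BadInv Ω t)
    (hc : t • c = c) (ha : t • a = a) (hb : t • b = b) (hac : a ≠ c) (hbc : b ≠ c) :
    ∃ g : G, g * t = t * g ∧ (∀ x ∈ centreSet A o c, g * x = x * g) ∧ g • a = b := by
  obtain ⟨g, rfl⟩ := D.trans o c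
  set t0 := g⁻¹ * t * g with ht0'
  have ht0 : BadInv Ω t0 := by simpa [ht0'] using ht.conj g⁻¹
  obtain ⟨k, hk, hkA, hkab⟩ := D.regular (a := g⁻¹ • a) (b := g⁻¹ • b) ht0 (base_conj hc)
    (by rw [ht0', mul_smul, mul_smul, smul_inv_smul, ha])
    (by rw [ht0', mul_smul, mul_smul, smul_inv_smul, hb])
    (fun e => hac (by rw [← e, smul_inv_smul])) (fun e => hbc (by rw [← e, smul_inv_smul]))
  refine ⟨g * k * g⁻¹, ?_, fun x hx => ?_, by simp [mul_smul, hkab]⟩
  · calc g * k * g⁻¹ * t = g * (k * t0) * g⁻¹ := by rw [ht0']; group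
      _ = t * (g * k * g⁻¹) := by rw [hk, ht0']; group
  · have h := hkA _ ((mem_centreSet_iff D.stab g x).1 hx).2
    calc g * k * g⁻¹ * x = g * (k * (g⁻¹ * x * g)) * g⁻¹ := by group
      _ = x * (g * k * g⁻¹) := by rw [h]; group

theorem fixed_subset (D : BaseData A o e) {t t' : G} {a b : Ω} (ht : BadInv Ω t)
    (ht' : BadInv Ω t') (hab : a ≠ b) (ha : t • a = a) (hb : t • b = b) (ha' : t' • a = a)
    (hb' : t' • b = b) : fixedBy Ω t ⊆ fixedBy Ω t' := by
  intro p hp
  obtain ⟨g, rfl⟩ := D.trans o a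
  have ht0 : BadInv Ω (g⁻¹ * t * g) := by simpa using ht.conj g⁻¹
  have hb0 : (g⁻¹ * t * g) • g⁻¹ • b = g⁻¹ • b := by rw [mul_smul, mul_smul, smul_inv_smul, hb]
  have hp0 : (g⁻¹ * t * g) • g⁻¹ • p = g⁻¹ • p := by
    rw [mul_smul, mul_smul, smul_inv_smul, show t • p = p from hp]
  obtain ⟨h, hh, hho⟩ := D.spans ht0 (base_conj ha) hb0
    (fun e => hab (by rw [← e, smul_inv_smul])) hp0
  have ht0' : BadInv Ω (g⁻¹ * t' * g) := by simpa using ht'.conj g⁻¹
  have hcm := D.closure_comm ht0' (base_conj ha')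
    (by rw [mul_smul, mul_smul, smul_inv_smul, hb']) hh
  show t' • p = p
  have hfix : (g⁻¹ * t' * g) • g⁻¹ • p = g⁻¹ • p := by
    rw [← hho, ← mul_smul, ← hcm, mul_smul, base_conj ha']
  rw [mul_smul, mul_smul, smul_inv_smul] at hfix
  exact MulAction.injective g⁻¹ hfix

/-- The configuration of the geometry. -/
def config [Finite G] [Finite Ω] (D : BaseData A o e) : Config G Ω where
  e := e
  e_odd := D.e_odd
  e_ge := D.e_ge
  X := centreSet A o
  card_X a := by
    obtain ⟨g, rfl⟩ := D.trans o a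
    have hset : centreSet A o (g • o) = (fun x => g * x * g⁻¹) '' ((A : Set G) \ {1}) := by
      ext x
      rw [mem_centreSet_iff D.stab g]
      constructor
      · rintro ⟨h1, h2⟩
        refine ⟨g⁻¹ * x * g, ⟨h2, fun e => h1 ?_⟩, by group⟩
        rw [Set.mem_singleton_iff] at e
        rw [show x = g * (g⁻¹ * x * g) * g⁻¹ by group, e]
        group
      · rintro ⟨y, ⟨hy, hy1⟩, rfl⟩
        exact ⟨by simpa using hy1, by simpa [mul_assoc] using hy⟩
    rw [hset, Set.ncard_image_of_injective _ (fun x y h => by simpa using h),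
      Set.ncard_diff_singleton_of_mem A.one_mem, ← Nat.card_coe_set_eq]
    exact congrArg (· - 1) D.card_A
  invol := fun {a x} hx => by
    obtain ⟨h1, g, -, hA⟩ := hx
    refine ⟨h1, ?_⟩
    have := D.sq _ hA
    calc x * x = g * (g⁻¹ * x * g * (g⁻¹ * x * g)) * g⁻¹ := by group
      _ = 1 := by rw [this]; group
  conj_mem g {_ _} hx := conj_mem_centreSet g hx
  fix_iff := fun {a x} b hx => by
    obtain ⟨g, rfl⟩ := D.trans o a
    obtain ⟨h, rfl⟩ := D.trans o b
    obtain ⟨hx1, hA⟩ := (mem_centreSet_iff D.stab g x).1 hx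
    constructor
    · intro hfix
      have h1 : (g⁻¹ * h)⁻¹ * (g⁻¹ * x * g) * (g⁻¹ * h) ∈ Subgroup.normalizer (A : Set G) := by
        rw [← D.stab, mem_stabilizer_iff,
          show (g⁻¹ * h)⁻¹ * (g⁻¹ * x * g) * (g⁻¹ * h) = h⁻¹ * x * h by group]
        exact base_conj hfix
      have h2 := D.ti _ hA (fun e => hx1 (by
        rw [show x = g * (g⁻¹ * x * g) * g⁻¹ by group, e]; group)) _ h1
      rw [← D.stab, mem_stabilizer_iff, mul_smul, inv_smul_eq_iff] at h2
      exact h2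
    · intro hb
      rw [hb]
      have : g⁻¹ * x * g ∈ stabilizer G o := by
        rw [D.stab]; exact Subgroup.le_normalizer hA
      rw [mem_stabilizer_iff, mul_smul, mul_smul, inv_smul_eq_iff] at this
      exact this
  comm := fun {a x y} hx hy => by
    obtain ⟨g, rfl⟩ := D.trans o a
    have h := D.comm _ ((mem_centreSet_iff D.stab g x).1 hx).2 _
      ((mem_centreSet_iff D.stab g y).1 hy).2
    calc x * y = g * (g⁻¹ * x * g * (g⁻¹ * y * g)) * g⁻¹ := by group
      _ = y * x := by rw [h]; group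
  mul_mem := fun {a x y} hx hy hne => by
    obtain ⟨g, rfl⟩ := D.trans o a
    rw [mem_centreSet_iff D.stab g] at hx hy ⊢
    refine ⟨fun e => hne ?_, ?_⟩
    · have h2 : y * y = 1 := by
        have := D.sq _ hy.2
        calc y * y = g * (g⁻¹ * y * g * (g⁻¹ * y * g)) * g⁻¹ := by group
          _ = 1 := by rw [this]; group
      rw [← inv_eq_self' h2]
      exact eq_inv_of_mul_eq_one_left e
    · rw [show g⁻¹ * (x * y) * g = g⁻¹ * x * g * (g⁻¹ * y * g) by group]
      exact A.mul_mem hx.2 hy.2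
  odd := fun {a b x y} hab hx hy => by
    obtain ⟨g, rfl⟩ := D.trans o a
    obtain ⟨h, rfl⟩ := D.trans o b
    obtain ⟨hx1, hxA⟩ := (mem_centreSet_iff D.stab g x).1 hx
    obtain ⟨hy1, hyA⟩ := (mem_centreSet_iff D.stab h y).1 hy
    have hodd := D.odd _ hxA _ hyA
      (fun e => hx1 (by rw [show x = g * (g⁻¹ * x * g) * g⁻¹ by group, e]; group))
      (fun e => hy1 (by rw [show y = h * (h⁻¹ * y * h) * h⁻¹ by group, e]; group))
      (g⁻¹ * h) (fun hm => hab (by
        rw [← D.stab, mem_stabilizer_iff, mul_smul, inv_smul_eq_iff] at hm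
        exact hm.symm))
    rw [show g⁻¹ * x * g * (g⁻¹ * h * (h⁻¹ * y * h) * (g⁻¹ * h)⁻¹) = g⁻¹ * (x * y) * g by group]
      at hodd
    rw [show orderOf (x * y) = orderOf (g⁻¹ * (x * y) * g) from ?_]
    · exact hodd
    · exact (MulEquiv.orderOf_eq (MulAut.conj g⁻¹) (x * y)).symm.trans (by simp)
  trans := D.trans
  moves := fun {t} ht => by
    obtain ⟨p, -, -, hp, -⟩ := ht.2.2
    obtain ⟨g, rfl⟩ := D.trans o p
    obtain ⟨a, ha⟩ := D.moves (by simpa using ht.conj g⁻¹) (base_conj hp)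
    refine ⟨g • a, fun e => ha ?_⟩
    rw [mul_smul, mul_smul, e, inv_smul_smul]
  card_fix := fun {t} ht => by
    obtain ⟨p, -, -, hp, -⟩ := ht.2.2
    obtain ⟨g, rfl⟩ := D.trans o p
    have h := D.card_fix (by simpa using ht.conj g⁻¹) (base_conj hp)
    rw [← h]
    refine Set.ncard_congr (fun a _ => g⁻¹ • a) (fun a ha => ?_)
      (fun a b _ _ e => MulAction.injective _ e) (fun a ha => ⟨g • a, ?_, inv_smul_smul g a⟩)
    · show (g⁻¹ * t * g) • g⁻¹ • a = g⁻¹ • a
      rw [mul_smul, mul_smul, smul_inv_smul, show t • a = a from ha]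
    · show t • g • a = g • a
      have : (g⁻¹ * t * g) • a = a := ha
      rwa [mul_smul, mul_smul, inv_smul_eq_iff] at this
  comm_fix := D.comm_fix
  torus := D.torus_general
  regular := D.regular_general
  meet := fun ht ht' hab ha hb ha' hb' =>
    (D.fixed_subset ht ht' hab ha hb ha' hb').antisymm (D.fixed_subset ht' ht hab ha' hb' ha hb)
  three := D.three

/-- No involution with two fixed points. -/
theorem no_badInv [Finite G] [Finite Ω] (D : BaseData A o e) (t : G) : ¬ BadInv Ω t :=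
  fun ht => D.config.false_of_bad ht

end BaseData

/-- The special case of the action on the cosets of `N(A)`. -/
theorem not_badInv_quotient [Finite G] {A : Subgroup G} {e : ℕ}
    (D : BaseData (Ω := G ⧸ Subgroup.normalizer (A : Set G)) A
      ((1 : G) : G ⧸ Subgroup.normalizer (A : Set G)) e) (t : G) :
    ¬ BadInv (G ⧸ Subgroup.normalizer (A : Set G)) t :=
  D.no_badInv t

/-- The stabiliser of the base coset. -/
theorem stab_quotient (A : Subgroup G) :
    stabilizer G ((1 : G) : G ⧸ Subgroup.normalizer (A : Set G)) =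
      Subgroup.normalizer (A : Set G) := MulAction.stabilizer_quotient _

/-- The action on cosets is transitive. -/
theorem trans_quotient (M : Subgroup G) (a b : G ⧸ M) : ∃ g : G, g • a = b :=
  MulAction.exists_smul_eq G a b

end Cfsg.Agent.ThreePrime74
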