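import Cfsg.Agent.ThreePrime74.Coset

/-!
The conditions of `BaseData` at a bad involution `t`, from a component of Suzuki type of its
centraliser: a map `φ` from `C(t)` with odd kernel centralising `A`, and a subgroup `L` of the target
on whose conjugates of the image `Z` of `A` the Suzuki facts hold.
-/

set_option autoImplicit false

namespace Cfsg.Agent.ThreePrime74

open MulAction Subgroup

variable {G Ω Q : Type*} [Group G] [Group Q] [MulAction G Ω]

/-- The conjugate of `Z` by `l`. -/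
def cj (Z : Subgroup Q) (l : Q) : Subgroup Q := Z.map (MulAut.conj l).toMonoidHom

theorem mem_cj {Z : Subgroup Q} {l x : Q} : x ∈ cj Z l ↔ l⁻¹ * x * l ∈ Z := by
  rw [cj, Subgroup.mem_map]
  constructor
  · rintro ⟨y, hy, rfl⟩
    simpa [mul_assoc] using hy
  · exact fun h => ⟨_, h, by simp [mul_assoc]⟩

theorem cj_mul (Z : Subgroup Q) (a b : Q) : cj Z (a * b) = cj (cj Z b) a := by
  ext x
  simp only [mem_cj, mul_inv_rev, mul_assoc]

theorem cj_one (Z : Subgroup Q) : cj Z 1 = Z := by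
  ext x
  simp [mem_cj]

/-- The image of `A` under `φ`. -/
def image {K : Subgroup G} (A : Subgroup G) (φ : K →* Q) : Subgroup Q := (A.subgroupOf K).map φ

/-- A component of Suzuki type for the centraliser of `t`; `q` is the order of `A`. -/
structure Comp (A : Subgroup G) (t : G) (q : ℕ) (φ : centralizer ({t} : Set G) →* Q)
    (L : Subgroup Q) : Prop where
  le : A ≤ centralizer ({t} : Set G)
  ker_odd : ∀ k : centralizer ({t} : Set G), φ k = 1 → Odd (orderOf k)
  ker_comm : ∀ k : centralizer ({t} : Set G), φ k = 1 → ∀ a ∈ A, Commute (k : G) a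
  range : L ≤ φ.range
  absorb : ∀ k : centralizer ({t} : Set G), ∃ l ∈ L, cj (image A φ) (φ k) = cj (image A φ) l
  card : {Y : Subgroup Q | ∃ l ∈ L, cj (image A φ) l = Y}.ncard = q ^ 2 + 1
  gen : ∀ l ∈ L, ∀ m ∈ L, cj (image A φ) l ≠ image A φ →
    ∃ g ∈ image A φ ⊔ cj (image A φ) l, cj (image A φ) g = cj (image A φ) m
  tor : ∀ x ∈ image A φ, ∀ y ∈ image A φ, x ≠ 1 → y ≠ 1 →
    ∃ l ∈ L, cj (image A φ) l = image A φ ∧ l * x * l⁻¹ = y
  reg : ∀ l ∈ L, ∀ m ∈ L, cj (image A φ) l ≠ image A φ → cj (image A φ) m ≠ image A φ →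
    ∃ c ∈ L, (∀ x ∈ image A φ, c * x * c⁻¹ = x) ∧ cj (image A φ) (c * l) = cj (image A φ) m

namespace Comp

variable {A : Subgroup G} {o : Ω} {t : G} {q : ℕ} {φ : centralizer ({t} : Set G) →* Q}
  {L : Subgroup Q}

theorem commute_mem {k : centralizer ({t} : Set G)} : (k : G) * t = t * k :=
  mem_centralizer_singleton_iff.1 k.2

/-- An involution over an element of the image of `A` lies in `A`. -/
theorem eq_of_map_eq [Finite G] (C : Comp A t q φ L) (hsq : ∀ x ∈ A, x * x = 1)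
    {x : centralizer ({t} : Set G)} (hx : (x : G) * x = 1) {a : G} (ha : a ∈ A)
    (h : φ x = φ ⟨a, C.le ha⟩) : (x : G) = a := by
  set a' : centralizer ({t} : Set G) := ⟨a, C.le ha⟩
  set d := a'⁻¹ * x with hd
  have hd1 : φ d = 1 := by rw [hd, map_mul, map_inv, h, inv_mul_cancel]
  have hx' : (x : G) = a * d := by simp [hd, a']
  have hc : Commute (d : G) a := C.ker_comm d hd1 a ha
  have hd2 : (d : G) * d = 1 := by
    calc (d : G) * d = (a * a) * (d * d) := by rw [hsq a ha, one_mul]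
      _ = a * (a * d) * d := by group
      _ = a * (d * a) * d := by rw [hc.eq]
      _ = 1 := by rw [← hx, hx']; group
  obtain ⟨n, hn⟩ := C.ker_odd d hd1
  have hdd : d = 1 := by
    have h1 := pow_orderOf_eq_one d
    have h2 : d ^ 2 = 1 := by
      rw [pow_two]
      exact Subtype.ext hd2
    rw [hn, pow_succ, pow_mul, h2, one_pow, one_mul] at h1
    exact h1
  rw [hx', hdd]
  simp

theorem normalizer_of_cj [Finite G] (C : Comp A t q φ L) (hsq : ∀ x ∈ A, x * x = 1)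
    {k : centralizer ({t} : Set G)} (h : cj (image A φ) (φ k) = image A φ) :
    (k : G) ∈ normalizer (A : Set G) := by
  have hmem : ∀ a ∈ A, (k : G) * a * (k : G)⁻¹ ∈ A := by
    intro a ha
    set x : centralizer ({t} : Set G) := k * ⟨a, C.le ha⟩ * k⁻¹ with hx
    have h1 : φ x ∈ cj (image A φ) (φ k) := by
      rw [mem_cj, hx, map_mul, map_mul, map_inv,
        show (φ k)⁻¹ * (φ k * φ ⟨a, C.le ha⟩ * (φ k)⁻¹) * φ k = φ ⟨a, C.le ha⟩ by group]
      exact ⟨⟨a, C.le ha⟩, ha, rfl⟩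
    rw [h] at h1
    obtain ⟨⟨b, hb⟩, hbA, hbe⟩ := h1
    have hbA' : b ∈ A := hbA
    have := C.eq_of_map_eq hsq (x := x) (by
      show (k : G) * a * (k : G)⁻¹ * ((k : G) * a * (k : G)⁻¹) = 1
      rw [show (k : G) * a * (k : G)⁻¹ * ((k : G) * a * (k : G)⁻¹) = k * (a * a) * (k : G)⁻¹ by group,
        hsq a ha]
      group) hbA' hbe.symm
    show (x : G) ∈ A
    rw [this]
    exact hbA'
  rw [mem_normalizer_iff_map_conj_eq]
  refine eq_of_le_of_card_ge ?_ (le_of_eq ?_)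
  · rintro _ ⟨a, ha, rfl⟩
    exact hmem a ha
  · exact (card_map_of_injective (MulAut.conj (k : G)).injective).symm

theorem map_mem_cj (C : Comp A t q φ L) {k x : centralizer ({t} : Set G)}
    (h : ((k⁻¹ * x * k : centralizer ({t} : Set G)) : G) ∈ A) :
    φ x ∈ cj (image A φ) (φ k) := by
  rw [mem_cj, ← map_inv, ← map_mul, ← map_mul]
  exact ⟨_, h, rfl⟩

theorem cj_eq_of_normalizer (C : Comp A t q φ L) {k : centralizer ({t} : Set G)}
    (h : (k : G) ∈ normalizer (A : Set G)) : cj (image A φ) (φ k) = image A φ := by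
  ext y
  rw [mem_cj]
  constructor
  · rintro ⟨a, ha, hae⟩
    refine ⟨k * a * k⁻¹, ?_, by rw [map_mul, map_mul, map_inv, hae]; group⟩
    show (k : G) * a * (k : G)⁻¹ ∈ A
    exact (mem_normalizer_iff.1 h _).1 ha
  · rintro ⟨a, ha, rfl⟩
    refine ⟨k⁻¹ * a * k, ?_, by rw [map_mul, map_mul, map_inv]⟩
    show (k : G)⁻¹ * a * k ∈ A
    refine (mem_normalizer_iff.1 h _).2 ?_
    rw [show (k : G) * ((k : G)⁻¹ * a * k) * (k : G)⁻¹ = a by group]
    exact ha

theorem smul_eq_iff [Finite G] (C : Comp A t q φ L) (hsq : ∀ x ∈ A, x * x = 1)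
    (hstab : stabilizer G o = normalizer (A : Set G)) (k k' : centralizer ({t} : Set G)) :
    (k : G) • o = (k' : G) • o ↔ cj (image A φ) (φ k) = cj (image A φ) (φ k') := by
  constructor
  · intro h
    have hn : ((k⁻¹ * k' : centralizer ({t} : Set G)) : G) ∈ normalizer (A : Set G) := by
      rw [← hstab, mem_stabilizer_iff]
      show ((k : G)⁻¹ * k') • o = o
      rw [mul_smul, ← h, inv_smul_smul]
    have := C.cj_eq_of_normalizer hn
    rw [map_mul, map_inv] at this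
    conv_rhs => rw [show φ k' = φ k * ((φ k)⁻¹ * φ k') by group, cj_mul, this]
  · intro h
    have h' : cj (image A φ) (φ (k⁻¹ * k')) = image A φ := by
      rw [map_mul, map_inv, cj_mul, ← h, ← cj_mul, inv_mul_cancel, cj_one]
    have := C.normalizer_of_cj hsq h'
    rw [← hstab, mem_stabilizer_iff] at this
    have h2 : ((k : G)⁻¹ * k') • o = o := this
    rw [mul_smul, inv_smul_eq_iff] at h2
    exact h2.symm

theorem exists_lift (C : Comp A t q φ L) {l : Q} (hl : l ∈ L) :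
    ∃ k : centralizer ({t} : Set G), φ k = l := C.range hl

theorem card_fix [Finite G] (C : Comp A t q φ L) (hsq : ∀ x ∈ A, x * x = 1)
    (hstab : stabilizer G o = normalizer (A : Set G)) (ho : t • o = o)
    (hfix : ∀ a : Ω, t • a = a → ∃ k : centralizer ({t} : Set G), (k : G) • o = a) :
    (fixedBy Ω t).ncard = q ^ 2 + 1 := by
  rw [← C.card]
  have hf : ∀ a ∈ fixedBy Ω t, ∃ k : centralizer ({t} : Set G), (k : G) • o = a := hfix
  choose F hF using hf
  refine Set.ncard_congr (fun a ha => cj (image A φ) (φ (F a ha))) (fun a ha => ?_)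
    (fun a b ha hb h => ?_) fun Y hY => ?_
  · obtain ⟨l, hl, hle⟩ := C.absorb (F a ha)
    exact ⟨l, hl, hle.symm⟩
  · rw [← hF a ha, ← hF b hb]
    exact (C.smul_eq_iff hsq hstab _ _).2 h
  · obtain ⟨l, hl, rfl⟩ := hY
    obtain ⟨k, rfl⟩ := C.exists_lift hl
    have hk : (k : G) • o ∈ fixedBy Ω t := by
      show t • (k : G) • o = (k : G) • o
      rw [smul_smul, ← commute_mem, mul_smul, ho]
    exact ⟨(k : G) • o, hk, (C.smul_eq_iff hsq hstab _ _).1 (hF _ hk)⟩

theorem torus [Finite G] (C : Comp A t q φ L) (hsq : ∀ x ∈ A, x * x = 1)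
    (hstab : stabilizer G o = normalizer (A : Set G)) {x y : G} (hx : x ∈ A) (hy : y ∈ A)
    (hx1 : x ≠ 1) (hy1 : y ≠ 1) : ∃ g : G, g * t = t * g ∧ g • o = o ∧ g * x * g⁻¹ = y := by
  have hne : ∀ z (hz : z ∈ A), z ≠ 1 → φ ⟨z, C.le hz⟩ ≠ 1 := fun z hz h1 h =>
    h1 (C.eq_of_map_eq hsq (x := ⟨z, C.le hz⟩) (hsq z hz) A.one_mem (by
      rw [h]
      exact (map_one φ).symm))
  obtain ⟨l, hl, hlZ, hlx⟩ := C.tor _ ⟨⟨x, C.le hx⟩, hx, rfl⟩ _ ⟨⟨y, C.le hy⟩, hy, rfl⟩
    (hne x hx hx1) (hne y hy hy1)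
  obtain ⟨k, rfl⟩ := C.exists_lift hl
  refine ⟨k, commute_mem, ?_, ?_⟩
  · rw [← mem_stabilizer_iff, hstab]
    exact C.normalizer_of_cj hsq hlZ
  · exact C.eq_of_map_eq hsq (x := k * ⟨x, C.le hx⟩ * k⁻¹) (by
      show (k : G) * x * (k : G)⁻¹ * ((k : G) * x * (k : G)⁻¹) = 1
      rw [show (k : G) * x * (k : G)⁻¹ * ((k : G) * x * (k : G)⁻¹) = k * (x * x) * (k : G)⁻¹ by group,
        hsq x hx]
      group) hy (by rw [map_mul, map_mul, map_inv]; exact hlx)

theorem regular [Finite G] (C : Comp A t q φ L) (hsq : ∀ x ∈ A, x * x = 1)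
    (hstab : stabilizer G o = normalizer (A : Set G))
    (hfix : ∀ a : Ω, t • a = a → ∃ k : centralizer ({t} : Set G), (k : G) • o = a) {a b : Ω}
    (ha : t • a = a) (hb : t • b = b) (hao : a ≠ o) (hbo : b ≠ o) :
    ∃ g : G, g * t = t * g ∧ (∀ x ∈ A, g * x = x * g) ∧ g • a = b := by
  obtain ⟨ka, rfl⟩ := hfix a ha
  obtain ⟨kb, rfl⟩ := hfix b hb
  obtain ⟨l, hl, hla⟩ := C.absorb ka
  obtain ⟨m, hm, hmb⟩ := C.absorb kb
  have hne : ∀ k : centralizer ({t} : Set G), (k : G) • o ≠ o →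
      cj (image A φ) (φ k) ≠ image A φ := fun k hk h => hk (by
    rw [← mem_stabilizer_iff, hstab]
    exact C.normalizer_of_cj hsq h)
  obtain ⟨c, hc, hcZ, hcl⟩ := C.reg l hl m hm (hla ▸ hne ka hao) (hmb ▸ hne kb hbo)
  obtain ⟨k, rfl⟩ := C.exists_lift hc
  refine ⟨k, commute_mem, fun x hx => ?_, ?_⟩
  · have := C.eq_of_map_eq hsq (x := k * ⟨x, C.le hx⟩ * k⁻¹) (by
      show (k : G) * x * (k : G)⁻¹ * ((k : G) * x * (k : G)⁻¹) = 1
      rw [show (k : G) * x * (k : G)⁻¹ * ((k : G) * x * (k : G)⁻¹) = k * (x * x) * (k : G)⁻¹ by group,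
        hsq x hx]
      group) hx (by rw [map_mul, map_mul, map_inv]; exact hcZ _ ⟨⟨x, C.le hx⟩, hx, rfl⟩)
    calc (k : G) * x = ((k : G) * x * (k : G)⁻¹) * k := by group
      _ = x * k := by rw [show (k : G) * x * (k : G)⁻¹ = x from this]
  · rw [smul_smul]
    refine (C.smul_eq_iff hsq hstab (k * ka) kb).2 ?_
    rw [map_mul, cj_mul, hla, ← cj_mul, hcl, hmb]

theorem spans [Finite G] (C : Comp A t q φ L) (hsq : ∀ x ∈ A, x * x = 1)
    (hstab : stabilizer G o = normalizer (A : Set G))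
    (hfix : ∀ a : Ω, t • a = a → ∃ k : centralizer ({t} : Set G), (k : G) • o = a) {d a : Ω}
    (hd : t • d = d) (hdo : d ≠ o) (ha : t • a = a) :
    ∃ g ∈ Subgroup.closure (centreSet A o o ∪ centreSet A o d), g • o = a := by
  obtain ⟨kd, rfl⟩ := hfix d hd
  obtain ⟨ka, rfl⟩ := hfix a ha
  obtain ⟨l, hl, hld⟩ := C.absorb kd
  obtain ⟨m, hm, hma⟩ := C.absorb ka
  have hne : cj (image A φ) l ≠ image A φ := fun h => hdo (by
    rw [← mem_stabilizer_iff, hstab]
    exact C.normalizer_of_cj hsq (hld.trans h))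
  obtain ⟨y, hy, hym⟩ := C.gen l hl m hm hne
  set H := (Subgroup.closure (centreSet A o o ∪ centreSet A o ((kd : G) • o))).subgroupOf
    (centralizer ({t} : Set G)) with hH
  have h1 : image A φ ≤ H.map φ := by
    refine map_mono fun x hx => ?_
    rw [mem_subgroupOf] at hx ⊢
    by_cases hx1 : (x : G) = 1
    · rw [hx1]; exact one_mem _
    · exact subset_closure (Or.inl ((centreSet_base hstab).ge ⟨hx, hx1⟩))
  have h2 : cj (image A φ) l ≤ H.map φ := by
    rw [← hld]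
    intro y hy
    obtain ⟨a, ha', hae⟩ := mem_cj.1 hy
    refine ⟨kd * a * kd⁻¹, ?_, by rw [map_mul, map_mul, map_inv, hae]; group⟩
    show (kd : G) * a * (kd : G)⁻¹ ∈ Subgroup.closure _
    by_cases ha1 : (a : G) = 1
    · rw [ha1]; simp
    · refine subset_closure (Or.inr ((mem_centreSet_iff hstab _ _).2 ⟨by simpa using ha1, ?_⟩))
      simpa [mul_assoc, mem_subgroupOf] using (mem_subgroupOf.1 ha')
  obtain ⟨g, hg, rfl⟩ := (sup_le h1 h2) hy
  exact ⟨g, hg, (C.smul_eq_iff hsq hstab g ka).2 (hym.trans hma.symm)⟩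

end Comp

/-- `BaseData` from components of the bad involutions at the base point. -/
theorem baseData_of_comp [Finite G] {A : Subgroup G} {o : Ω} {e : ℕ} (he : Odd e) (he3 : 3 ≤ e)
    (hstab : stabilizer G o = normalizer (A : Set G)) (htrans : ∀ a b : Ω, ∃ g : G, g • a = b)
    (hcard : Nat.card A = 2 ^ e) (hcomm : ∀ x ∈ A, ∀ y ∈ A, x * y = y * x)
    (hsq : ∀ x ∈ A, x * x = 1)
    (hti : ∀ x ∈ A, x ≠ 1 → ∀ g : G, g⁻¹ * x * g ∈ normalizer (A : Set G) →
      g ∈ normalizer (A : Set G))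
    (hodd : ∀ x ∈ A, ∀ y ∈ A, x ≠ 1 → y ≠ 1 → ∀ g : G, g ∉ normalizer (A : Set G) →
      Odd (orderOf (x * (g * y * g⁻¹))))
    (hmoves : ∀ {t : G}, BadInv Ω t → t • o = o → ∃ a : Ω, t • a ≠ a)
    (hfix : ∀ {t : G}, BadInv Ω t → t • o = o → ∀ a : Ω, t • a = a →
      ∃ k : centralizer ({t} : Set G), (k : G) • o = a)
    (hcomp : ∀ {t : G}, BadInv Ω t → t • o = o →
      ∃ (Q : Type*) (_ : Group Q) (φ : centralizer ({t} : Set G) →* Q) (L : Subgroup Q),
        Comp A t (2 ^ e) φ L)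
    (h3 : ¬ 3 ∣ Nat.card G) : BaseData A o e where
  e_odd := he
  e_ge := he3
  stab := hstab
  trans := htrans
  card_A := hcard
  comm := hcomm
  sq := hsq
  ti := hti
  odd := hodd
  moves := hmoves
  central := fun ht ho x hx => by
    obtain ⟨_, _, _, _, C⟩ := hcomp ht ho
    exact (mem_centralizer_singleton_iff.1 (C.le hx)).symm
  card_fix := fun ht ho => by
    obtain ⟨_, _, _, _, C⟩ := hcomp ht ho
    exact C.card_fix hsq hstab ho (hfix ht ho)
  torus := fun ht ho x hx y hy hx1 hy1 => by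
    obtain ⟨_, _, _, _, C⟩ := hcomp ht ho
    exact C.torus hsq hstab hx hy hx1 hy1
  regular := fun ht ho ha hb hao hbo => by
    obtain ⟨_, _, _, _, C⟩ := hcomp ht ho
    exact C.regular hsq hstab (hfix ht ho) ha hb hao hbo
  spans := fun ht ho hd hdo ha => by
    obtain ⟨_, _, _, _, C⟩ := hcomp ht ho
    exact C.spans hsq hstab (hfix ht ho) hd hdo ha
  three := h3

end Cfsg.Agent.ThreePrime74
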