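import Mathlib

/-!
An integrality condition for a geometry of points and lines with an involution, and the arithmetic
consequence used for groups of order prime to three.
-/

set_option autoImplicit false

namespace Cfsg.Agent.ThreePrime74

open Finset Matrix

/-- The trace of an idempotent rational matrix is a natural number. -/
theorem exists_trace_eq {P : Type*} [Fintype P] [DecidableEq P] (M : Matrix P P ℚ) (h : M * M = M) :
    ∃ k : ℕ, M.trace = k := by
  have hid : IsIdempotentElem (Matrix.toLin' M) := by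
    show Matrix.toLin' M * Matrix.toLin' M = Matrix.toLin' M
    rw [Module.End.mul_eq_comp, ← Matrix.toLin'_mul, h]
  refine ⟨Module.finrank ℚ (Matrix.toLin' M).range, ?_⟩
  rw [← Matrix.trace_toLin'_eq]
  exact (LinearMap.IsIdempotentElem.isProj_range _ hid).trace

variable {P L : Type*} [Fintype P] [Fintype L]

/-- The number of lines through two points. -/
noncomputable def joint (I : P → L → Prop) (a b : P) : ℕ := Nat.card {m : L // I a m ∧ I b m}

/-- The integrality condition. -/
theorem design_dvd (I : P → L → Prop) (f r α D : ℕ) (hD : f + r = D + α + 1) (hD0 : 0 < D)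
    (hline : ∀ m, Nat.card {a // I a m} = f) (hpoint : ∀ a, Nat.card {m // I a m} = r)
    (hmeet : ∀ a b m m', a ≠ b → I a m → I b m → I a m' → I b m' → m = m')
    (hoff : ∀ a m, ¬ I a m → Nat.card {p : {p // I p m} // ∃ m', I a m' ∧ I p m'} = α)
    (σ : P → P) (hσ : ∀ a, σ (σ a) = a) (τ : L ≃ L) (hτ : ∀ a m, I (σ a) (τ m) ↔ I a m)
    (hfix : Nat.card {a // σ a = a} = f) (hmove : ∀ a, σ a ≠ a → ∃ m, I a m ∧ I (σ a) m) :
    (D : ℤ) ∣ (Nat.card P : ℤ) - f := by
  classical
  rcases isEmpty_or_nonempty P with hP | hP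
  · have : f = 0 := by rw [← hfix]; simp
    simp [this]
  let N : Matrix P L ℚ := Matrix.of fun a m => if I a m then 1 else 0
  let W : Matrix P P ℚ := N * Nᵀ
  let J : Matrix P P ℚ := Matrix.of fun _ _ => 1
  have hone : ∀ a b, a ≠ b → ∀ m, I a m → I b m → joint I a b = 1 := fun a b hab m ha hb => by
    rw [joint, Nat.card_eq_one_iff_unique]
    exact ⟨⟨fun x y => Subtype.ext (hmeet a b _ _ hab x.2.1 x.2.2 y.2.1 y.2.2)⟩,
      ⟨⟨m, ha, hb⟩⟩⟩
  have hW : ∀ a b, W a b = joint I a b := fun a b => by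
    simp only [W, N, Matrix.mul_apply, Matrix.transpose_apply, Matrix.of_apply, joint, mul_ite, mul_one, mul_zero,
      Nat.card_eq_fintype_card, Fintype.card_subtype]
    rw [← Finset.sum_boole]
    exact Finset.sum_congr rfl fun x _ => by
      by_cases h1 : I a x <;> by_cases h2 : I b x <;> simp [h1, h2, N]
  have hdiag : ∀ a, W a a = r := fun a => by
    rw [hW]
    congr 1
    rw [joint, ← hpoint a]
    exact Nat.card_congr (Equiv.subtypeEquivRight fun m => and_self_iff)
  have hWN : ∀ a m, (W * N) a m = (D : ℚ) * N a m + α := by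
    intro a m
    have h1 : (W * N) a m = ∑ p : {p // I p m}, (joint I a p : ℚ) := by
      rw [Matrix.mul_apply, ← Finset.sum_subtype (Finset.univ.filter fun p => I p m) (by simp)
        (fun p : P => (joint I a p : ℚ)), Finset.sum_filter]
      exact Finset.sum_congr rfl fun p _ => by by_cases h : I p m <;> simp [N, h, hW]
    rw [h1]
    by_cases ham : I a m
    · have h2 : ∀ p : {p // I p m}, (joint I a p : ℚ) = if p = ⟨a, ham⟩ then (r : ℚ) else 1 := by
        intro p
        split
        · next h => rw [h, ← hW, hdiag]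
        · next h =>
          rw [hone a p.1 (fun e => h (Subtype.ext e.symm)) m ham p.2, Nat.cast_one]
      rw [Finset.sum_congr rfl fun p _ => h2 p, Finset.sum_ite, Finset.sum_const, Finset.sum_const,
        Finset.filter_eq', if_pos (Finset.mem_univ _), Finset.card_singleton, Finset.filter_ne',
        Finset.card_erase_of_mem (Finset.mem_univ _), Finset.card_univ, ← Nat.card_eq_fintype_card,
        hline m]
      have hf : 1 ≤ f := by
        rw [← hline m]
        exact Nat.card_pos_iff.2 ⟨⟨⟨a, ham⟩⟩, inferInstance⟩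
      have hD' : (f : ℚ) + r = D + α + 1 := by exact_mod_cast hD
      simp only [one_smul, nsmul_eq_mul, mul_one, N, Matrix.of_apply, if_pos ham]
      rw [Nat.cast_sub hf, Nat.cast_one]
      linarith
    · have h2 : ∀ p : {p // I p m}, (joint I a p : ℚ) =
          if (∃ m', I a m' ∧ I p m') then 1 else 0 := by
        intro p
        split
        · next h =>
          obtain ⟨m', ha', hp'⟩ := h
          rw [hone a p.1 (fun e => ham (e ▸ p.2)) m' ha' hp', Nat.cast_one]
        · next h =>
          have : IsEmpty {m' : L // I a m' ∧ I p.1 m'} := ⟨fun x => h ⟨x.1, x.2⟩⟩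
          rw [joint, Nat.card_eq_zero.2 (Or.inl this), Nat.cast_zero]
      rw [Finset.sum_congr rfl fun p _ => h2 p, Finset.sum_boole, ← Fintype.card_subtype,
        ← Nat.card_eq_fintype_card, hoff a m ham]
      simp [N, ham]
  have hWW : W * W = (D : ℚ) • W + ((α : ℚ) * r) • J := by
    ext a b
    show (W * (N * Nᵀ)) a b = _
    rw [← Matrix.mul_assoc, Matrix.mul_apply]
    simp only [hWN, Matrix.transpose_apply, Matrix.add_apply, Matrix.smul_apply, smul_eq_mul, J,
      mul_one, add_mul, Finset.sum_add_distrib, mul_assoc, ← Finset.mul_sum]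
    have hr : ∀ b, ∑ m, N b m = (r : ℚ) := fun b => by
      simp only [N, Matrix.of_apply]
      rw [← hpoint b, Nat.card_eq_fintype_card, Fintype.card_subtype, ← Finset.sum_boole]
    simp only [hr, W, Matrix.mul_apply, Matrix.transpose_apply, Matrix.of_apply, mul_one]
  set n : ℚ := (Nat.card P : ℚ)
  have hn : n ≠ 0 := by
    exact Nat.cast_ne_zero.2 (Nat.card_pos (α := P)).ne'
  have hsum : ∀ a, ∑ b, W a b = (r : ℚ) * f := by
    intro a
    simp only [W, Matrix.mul_apply, Matrix.transpose_apply]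
    rw [Finset.sum_comm]
    simp only [← Finset.mul_sum]
    have h1 : ∀ m, ∑ b, N b m = (f : ℚ) := fun m => by
      simp only [N, Matrix.of_apply]
      rw [← hline m, Nat.card_eq_fintype_card, Fintype.card_subtype, ← Finset.sum_boole]
    simp only [h1, ← Finset.sum_mul]
    congr 1
    simp only [N, Matrix.of_apply]
    rw [← hpoint a, Nat.card_eq_fintype_card, Fintype.card_subtype, ← Finset.sum_boole]
  have hsym : ∀ a b, W a b = W b a := fun a b => by
    simp only [W, Matrix.mul_apply, Matrix.transpose_apply]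
    exact Finset.sum_congr rfl fun m _ => mul_comm _ _
  have hWJ : W * J = ((r : ℚ) * f) • J := by
    ext a b; simp [Matrix.mul_apply, J, Matrix.of_apply, hsum]
  have hJW : J * W = ((r : ℚ) * f) • J := by
    ext a b; simp [Matrix.mul_apply, J, Matrix.of_apply, hsym _ b, hsum]
  have hJJ : J * J = n • J := by
    ext a b; simp [Matrix.mul_apply, J, Matrix.of_apply, n]
  have hrel : ((r : ℚ) * f) * ((r : ℚ) * f) = D * (r * f) + α * r * n := by
    obtain ⟨a⟩ := hP
    have h1 := congrArg (fun M : Matrix P P ℚ => (M * J) a a) hWW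
    simp only [Matrix.mul_assoc, hWJ, Matrix.mul_smul, Matrix.add_mul, Matrix.smul_mul, hJJ,
      Matrix.add_apply, Matrix.smul_apply, smul_eq_mul, J, Matrix.of_apply, mul_one] at h1
    linarith
  set c : ℚ := r * f / n
  let E : Matrix P P ℚ := W - c • J
  have hc : c * n = r * f := by rw [div_mul_cancel₀ _ hn]
  have hEE : E * E = (D : ℚ) • E := by
    have h1 : (α : ℚ) * r - c * (r * f) = -(D * c) := by
      apply mul_right_cancel₀ hn
      have h2 : ((α : ℚ) * r - c * (r * f)) * n = α * r * n - (c * n) * (r * f) := by ring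
      have h3 : -((D : ℚ) * c) * n = -((D : ℚ) * (c * n)) := by ring
      rw [h2, h3, hc]
      linarith
    ext a b
    simp only [E, Matrix.sub_mul, Matrix.mul_sub, Matrix.smul_mul, Matrix.mul_smul, hWW, hWJ, hJW,
      hJJ, Matrix.add_apply, Matrix.sub_apply, Matrix.smul_apply, smul_eq_mul, J, Matrix.of_apply, mul_one]
    have h4 : c * (c * n) = c * (r * f) := by rw [hc]
    linear_combination h1 + h4
  have hjoint : ∀ a b, joint I (σ a) (σ b) = joint I a b := fun a b =>
    (Nat.card_congr (τ.subtypeEquiv fun m => by rw [hτ, hτ])).symm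
  have hEσ : ∀ a b, E (σ a) b = E a (σ b) := fun a b => by
    have h := hjoint a (σ b)
    rw [hσ] at h
    simp [E, J, hW, h]
  let Es : Matrix P P ℚ := Matrix.of fun a b => E (σ a) b
  have e1 : E * Es = (D : ℚ) • Es := by
    ext a b
    simp only [Matrix.mul_apply, Es, Matrix.of_apply, Matrix.smul_apply, smul_eq_mul]
    rw [Finset.sum_congr rfl fun p _ => by rw [hEσ p b], ← Matrix.mul_apply, hEE, Matrix.smul_apply,
      smul_eq_mul, ← hEσ]
  have e2 : Es * E = (D : ℚ) • Es := by
    ext a b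
    simp only [Matrix.mul_apply, Es, Matrix.of_apply, Matrix.smul_apply, smul_eq_mul]
    rw [← Matrix.mul_apply, hEE, Matrix.smul_apply, smul_eq_mul]
  have e3 : Es * Es = (D : ℚ) • E := by
    ext a b
    simp only [Matrix.mul_apply, Es, Matrix.of_apply, Matrix.smul_apply, smul_eq_mul]
    rw [Finset.sum_congr rfl fun p _ => by rw [hEσ p b], ← Matrix.mul_apply, hEE, Matrix.smul_apply,
      smul_eq_mul, hEσ, hσ]
  have hD' : (D : ℚ) ≠ 0 := by exact_mod_cast hD0.ne'
  obtain ⟨j, hj⟩ := exists_trace_eq ((D : ℚ)⁻¹ • E) (by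
    rw [Matrix.smul_mul, Matrix.mul_smul, hEE, smul_smul, smul_smul, mul_assoc,
      inv_mul_cancel₀ hD', mul_one])
  obtain ⟨k, hk⟩ := exists_trace_eq ((2 * (D : ℚ))⁻¹ • (E + Es)) (by
    rw [Matrix.smul_mul, Matrix.mul_smul, Matrix.add_mul, Matrix.mul_add, Matrix.mul_add, hEE, e1,
      e2, e3, smul_smul]
    ext a b
    simp only [Matrix.add_apply, Matrix.smul_apply, smul_eq_mul]
    field_simp
    ring)
  have htr : Es.trace = n - f := by
    have h1 : ∀ a, Es a a = (if σ a = a then (r : ℚ) - 1 else 0) + (1 - c) := by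
      intro a
      show E (σ a) a = _
      simp only [E, J, Matrix.of_apply, Matrix.sub_apply, Matrix.smul_apply, smul_eq_mul, mul_one]
      split
      · next h => rw [h, hdiag]; ring
      · next h =>
        obtain ⟨m, ha, hb⟩ := hmove a h
        rw [hW, hone _ _ h m hb ha, Nat.cast_one]; ring
    rw [Matrix.trace]
    simp only [Matrix.diag_apply, h1, Finset.sum_add_distrib, Finset.sum_ite, Finset.sum_const,
      nsmul_eq_mul, mul_zero, add_zero, Finset.card_univ]
    rw [← Fintype.card_subtype, ← Nat.card_eq_fintype_card, ← Nat.card_eq_fintype_card, hfix]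
    show (f : ℚ) * (r - 1) + n * (1 - c) = n - f
    linear_combination -hc
  rw [Matrix.trace_smul, smul_eq_mul] at hj hk
  rw [Matrix.trace_add, htr] at hk
  refine ⟨2 * (k : ℤ) - j, ?_⟩
  have h5 : n - (f : ℚ) = D * (2 * k - j) := by
    field_simp at hj hk
    linear_combination hk - hj
  have h6 : (((Nat.card P : ℤ) - f : ℤ) : ℚ) = ((D * (2 * (k : ℤ) - j) : ℤ) : ℚ) := by
    push_cast
    exact h5
  exact_mod_cast h6

/-- The arithmetic consequence: every line meets every star. -/
theorem alpha_eq {e α : ℕ} (he : Odd e) (he3 : 3 ≤ e) (hα : 0 < α)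
    (hdvd : ((2 ^ e) ^ 2 + 1 + (2 ^ e - 2) * α) ∣ (2 ^ e) ^ 2 * (((2 ^ e) ^ 2 + 1) * (2 ^ e - 1))) :
    α = (2 ^ e) ^ 2 + 1 := by
  set q := 2 ^ e with hq
  have hq8 : 8 ≤ q := le_trans (by norm_num) (Nat.pow_le_pow_right (show 2 > 0 by norm_num) he3)
  have hqe : Even q := (Nat.even_pow' (by omega)).2 even_two
  have hDodd : Odd (q ^ 2 + 1 + (q - 2) * α) := by
    have h1 : Even (q ^ 2) := (Nat.even_pow' two_ne_zero).2 hqe
    have h2 : Even ((q - 2) * α) := ((Nat.even_sub (by omega)).2 (iff_of_true hqe even_two)).mul_right α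
    exact h1.add_one.add_even h2
  have hcop : Nat.Coprime (q ^ 2 + 1 + (q - 2) * α) (q ^ 2) := by
    have := hDodd.coprime_two_right
    show Nat.Coprime _ ((2 ^ e) ^ 2)
    exact (this.pow_right e).pow_right 2
  obtain ⟨E, hE⟩ := hcop.dvd_of_dvd_mul_left hdvd
  obtain ⟨s, hs⟩ : ∃ s, q = s + 2 := ⟨q - 2, by omega⟩
  have h1 : q - 1 = s + 1 := by omega
  have h2 : q - 2 = s := by omega
  rw [h1, h2] at hE
  have hElt : E < s + 1 := by
    by_contra hcon
    push Not at hcon
    have := Nat.mul_le_mul (le_refl (q ^ 2 + 1 + s * α)) hcon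
    have hpos : 0 < s * α * (s + 1) := by
      have : 0 < s := by omega
      positivity
    nlinarith
  obtain ⟨d, hd⟩ : ∃ d, s + 1 = E + d + 1 := ⟨s - E, by omega⟩
  -- the equation
  have key : s * α * E = (q ^ 2 + 1) * (d + 1) := by
    rw [hd] at hE
    nlinarith
  have h5 : s ∣ 5 * (d + 1) := by
    have h3 : q ^ 2 + 1 = s * (s + 4) + 5 := by rw [hs]; ring
    rw [h3, add_mul] at key
    exact (Nat.dvd_add_right (Dvd.intro _ (mul_assoc _ _ _).symm)).1 (key ▸ Dvd.intro _ (mul_assoc _ _ _).symm)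
  obtain ⟨j, hj⟩ := h5
  have hj5 : 1 ≤ j ∧ j ≤ 5 := by
    constructor
    · rcases j with _ | j
      · simp at hj
      · omega
    · by_contra hcon
      push Not at hcon
      have := Nat.mul_le_mul (le_refl s) hcon
      nlinarith
  have hαE : 5 * α * E = (q ^ 2 + 1) * j := by
    have : s * (5 * α * E) = s * ((q ^ 2 + 1) * j) := by
      linear_combination 5 * key + (q ^ 2 + 1) * hj
    exact Nat.eq_of_mul_eq_mul_left (by omega) this
  rcases (show j = 5 ∨ j ≤ 4 by omega) with rfl | hj4
  · have hE1 : E = 1 := by omega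
    subst hE1
    omega
  exfalso
  -- five divides `q - 2`, and `E` is bounded
  have hZ : 5 * (E : ℤ) = (5 - j) * ((q : ℤ) - 2) + 5 := by
    have a1 : (5 : ℤ) * (d + 1) = s * j := by exact_mod_cast hj
    have a2 : (s : ℤ) + 1 = E + d + 1 := by exact_mod_cast hd
    have a3 : (q : ℤ) = s + 2 := by exact_mod_cast hs
    linear_combination (-5 : ℤ) * a2 + (-1 : ℤ) * a1 - (5 - (j : ℤ)) * a3
  have hαZ : 5 * (α : ℤ) * E = ((q : ℤ) ^ 2 + 1) * j := by exact_mod_cast hαE
  have hb : (E : ℤ) ∣ (j : ℤ) * ((5 - 2 * j) ^ 2 + (5 - j) ^ 2) := by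
    refine ⟨5 * α * (5 - j) ^ 2 - 5 * j * ((5 - j) * q + (5 - 2 * j)), ?_⟩
    linear_combination -((5 : ℤ) - j) ^ 2 * hαZ + (j : ℤ) * ((5 - j) * q + (5 - 2 * j)) * hZ
  have hEpos : 0 < E := by
    rcases E with _ | E
    · simp at hαE; omega
    · omega
  have hq197 : q ≤ 197 := by
    have h40 : (j : ℤ) * ((5 - 2 * j) ^ 2 + (5 - j) ^ 2) ≤ 40 ∧
        0 < (j : ℤ) * ((5 - 2 * j) ^ 2 + (5 - j) ^ 2) := by
      obtain ⟨hj1, -⟩ := hj5
      interval_cases j <;> norm_num
    have := Int.le_of_dvd h40.2 hb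
    have : ((5 : ℤ) - j) * (q - 2) ≤ 195 := by linarith [h40.1]
    nlinarith [show (1 : ℤ) ≤ 5 - j by omega, show (6 : ℤ) ≤ q - 2 by omega]
  have he7 : e ≤ 7 := by
    by_contra hcon
    have := Nat.pow_le_pow_right (show 2 > 0 by norm_num) (show 8 ≤ e by omega)
    omega
  obtain ⟨k, rfl⟩ := he
  obtain ⟨hj1, -⟩ := hj5
  have hk3 : k ≤ 3 := by omega
  have hk1 : 1 ≤ k := by omega
  have hEv : E = (5 * (q - 2 + 1) - (q - 2) * j) / 5 := by
    rw [h2]
    omega
  interval_cases k <;> interval_cases j <;> norm_num at hq <;>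
    (rw [hEv, hq] at hαE; norm_num at hαE <;> omega)

end Cfsg.Agent.ThreePrime74
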