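import Cfsg.Agent.ThreePrime74.Design

/-!
The configuration left in the classification of simple groups of order prime to three: an involution
`t` with more than one fixed point, whose centraliser has a Suzuki component.  The fixed point sets
of these involutions are the lines of a geometry on the points; the integrality condition makes
every line meet every star, and then the number of lines through a point is divisible by three and
divides the order of the group.
-/

set_option autoImplicit false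

namespace Cfsg.Agent.ThreePrime74

open MulAction Pointwise

variable {G Ω : Type*} [Group G] [MulAction G Ω]

/-- An involution with at least two fixed points. -/
def BadInv (Ω : Type*) [MulAction G Ω] (t : G) : Prop :=
  t ≠ 1 ∧ t * t = 1 ∧ ∃ a b : Ω, a ≠ b ∧ t • a = a ∧ t • b = b

/-- The hypotheses; `X a` is the set of involutions attached to the point `a`. -/
structure Config (G Ω : Type*) [Group G] [MulAction G Ω] where
  e : ℕ
  e_odd : Odd e
  e_ge : 3 ≤ e
  X : Ω → Set G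
  card_X : ∀ a, (X a).ncard = 2 ^ e - 1
  invol : ∀ {a x}, x ∈ X a → x ≠ 1 ∧ x * x = 1
  conj_mem : ∀ (g : G) {a x}, x ∈ X a → g * x * g⁻¹ ∈ X (g • a)
  fix_iff : ∀ {a x} (b : Ω), x ∈ X a → (x • b = b ↔ b = a)
  comm : ∀ {a x y}, x ∈ X a → y ∈ X a → x * y = y * x
  mul_mem : ∀ {a x y}, x ∈ X a → y ∈ X a → x ≠ y → x * y ∈ X a
  odd : ∀ {a b x y}, a ≠ b → x ∈ X a → y ∈ X b → Odd (orderOf (x * y))
  trans : ∀ a b : Ω, ∃ g : G, g • a = b
  moves : ∀ {t : G}, BadInv Ω t → ∃ a : Ω, t • a ≠ a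
  card_fix : ∀ {t : G}, BadInv Ω t → (fixedBy Ω t).ncard = (2 ^ e) ^ 2 + 1
  comm_fix : ∀ {t : G} {c x}, BadInv Ω t → t • c = c → x ∈ X c → t * x = x * t
  torus : ∀ {t : G} {c d x y}, BadInv Ω t → t • c = c → t • d = d → x ∈ X c → y ∈ X d →
    ∃ g : G, g * t = t * g ∧ g • c = d ∧ g * x * g⁻¹ = y
  regular : ∀ {t : G} {c a b : Ω}, BadInv Ω t → t • c = c → t • a = a → t • b = b → a ≠ c →
    b ≠ c → ∃ g : G, g * t = t * g ∧ (∀ x ∈ X c, g * x = x * g) ∧ g • a = b
  meet : ∀ {t t' : G} {a b : Ω}, BadInv Ω t → BadInv Ω t' → a ≠ b → t • a = a → t • b = b →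
    t' • a = a → t' • b = b → fixedBy Ω t = fixedBy Ω t'
  three : ¬ 3 ∣ Nat.card G

theorem inv_eq_self' {x : G} (h : x * x = 1) : x⁻¹ = x := inv_eq_of_mul_eq_one_right h

theorem smul_smul_self {x : G} (h : x * x = 1) (a : Ω) : x • x • a = a := by
  rw [smul_smul, h, one_smul]

theorem smul_comm_of_commute {g t : G} (h : g * t = t * g) (a : Ω) : g • t • a = t • g • a := by
  rw [smul_smul, smul_smul, h]

theorem BadInv.conj {t : G} (h : BadInv Ω t) (g : G) : BadInv Ω (g * t * g⁻¹) := by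
  obtain ⟨h1, h2, a, b, hab, ha, hb⟩ := h
  refine ⟨?_, ?_, g • a, g • b, fun e => hab (MulAction.injective g e), ?_, ?_⟩
  · simpa using h1
  · rw [show g * t * g⁻¹ * (g * t * g⁻¹) = g * (t * t) * g⁻¹ by group, h2]
    group
  · rw [smul_smul, show g * t * g⁻¹ * g = g * t by group, ← smul_smul, ha]
  · rw [smul_smul, show g * t * g⁻¹ * g = g * t by group, ← smul_smul, hb]

namespace Config

variable (C : Config G Ω)

theorem center_eq {a b : Ω} {x : G} (ha : x ∈ C.X a) (hb : x ∈ C.X b) : a = b :=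
  (C.fix_iff a hb).1 ((C.fix_iff a ha).2 rfl)

theorem three_le_card (a : Ω) : 3 ≤ (C.X a).ncard := by
  rw [C.card_X]
  have := Nat.pow_le_pow_right (show 2 > 0 by norm_num) C.e_ge
  omega

theorem exists_middle {t : G} (ht : t * t = 1) {a : Ω} (ha : t • a ≠ a) :
    ∃ c u, t • c = c ∧ u ∈ C.X c ∧ u • a = t • a := by
  obtain ⟨x, hx⟩ := Set.nonempty_of_ncard_ne_zero (s := C.X a) (by
    have := C.three_le_card a; omega)
  have hx2 := (C.invol hx).2
  have ht' := inv_eq_self' ht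
  have hx' := inv_eq_self' hx2
  have hy : t * x * t ∈ C.X (t • a) := by
    have := C.conj_mem t hx
    rwa [ht'] at this
  obtain ⟨k, hk⟩ := C.odd (Ne.symm ha) hx hy
  set d := x * (t * x * t) with hd
  have hdn : d ^ (2 * k + 1) = 1 := by rw [← hk]; exact pow_orderOf_eq_one d
  have hinv : d⁻¹ = t * x * t * x := by rw [hd, mul_inv_rev, mul_inv_rev, mul_inv_rev, hx', ht', mul_assoc t x t]
  have hxd : ∀ m : ℕ, x * d ^ m * x = (d ^ m)⁻¹ := fun m => by
    have h1 : x * d * x = d⁻¹ := by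
      rw [hinv, hd, ← mul_assoc x x, hx2, one_mul]
    have h2 := conj_pow (i := m) (a := x) (b := d)
    rw [hx', h1, inv_pow] at h2
    exact h2.symm
  have htd : ∀ m : ℕ, t * d ^ m * t = (d ^ m)⁻¹ := fun m => by
    have h1 : t * d * t = d⁻¹ := by
      rw [hinv, hd]
      simp only [mul_assoc, ht, mul_one]
    have h2 := conj_pow (i := m) (a := t) (b := d)
    rw [ht', h1, inv_pow] at h2
    exact h2.symm
  set g := (d ^ ((k + 1) * (k + 1)))⁻¹ with hg
  have hu : g * x * g⁻¹ = x * d ^ (k + 1) := by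
    rw [hg, inv_inv, ← hxd, mul_assoc _ x x, hx2, mul_one, mul_assoc, ← pow_add,
      show (k + 1) * (k + 1) + (k + 1) * (k + 1) = (2 * k + 1) * (k + 1) + (k + 1) by ring,
      pow_add, pow_mul, hdn, one_pow, one_mul]
  have hdk : d * (d ^ (k + 1))⁻¹ = d ^ (k + 1) := by
    rw [mul_inv_eq_iff_eq_mul, ← pow_add, show k + 1 + (k + 1) = 2 * k + 1 + 1 by ring, pow_succ,
      hdn, one_mul]
  have hum := C.conj_mem g hx
  rw [hu] at hum
  have htu : t * (x * d ^ (k + 1)) * t = x * d ^ (k + 1) := by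
    have h1 : t * (x * d ^ (k + 1)) * t = (t * x * t) * (t * d ^ (k + 1) * t) := by
      simp only [mul_assoc]
      rw [← mul_assoc t t, ht, one_mul]
    rw [h1, htd, show t * x * t = x * d by rw [hd, ← mul_assoc, hx2, one_mul], mul_assoc, hdk]
  have huxu : x * d ^ (k + 1) * x * (x * d ^ (k + 1)) = t * x * t :=
    calc x * d ^ (k + 1) * x * (x * d ^ (k + 1))
        = x * d ^ (k + 1) * (x * x) * d ^ (k + 1) := by group
      _ = x * (d ^ (k + 1) * d ^ (k + 1)) := by rw [hx2, mul_one, mul_assoc]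
      _ = x * d := by
          rw [← pow_add, show k + 1 + (k + 1) = 2 * k + 1 + 1 by ring, pow_succ, hdn, one_mul]
      _ = t * x * t := by rw [hd, ← mul_assoc, hx2, one_mul]
  refine ⟨g • a, x * d ^ (k + 1), ?_, hum, ?_⟩
  · have := C.conj_mem t hum
    rw [ht', htu] at this
    exact C.center_eq this hum
  · have h := C.conj_mem (x * d ^ (k + 1)) hx
    rw [inv_eq_self' (C.invol hum).2, huxu] at h
    exact C.center_eq h hy

theorem middle_bad {t : G} (ht : BadInv Ω t) {a c : Ω} {u : G} (ha : t • a ≠ a) (hc : t • c = c)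
    (hu : u ∈ C.X c) (hua : u • a = t • a) :
    BadInv Ω (t * u) ∧ (t * u) • a = a ∧ (t * u) • (t • a) = t • a ∧ (t * u) • c = c := by
  have h1 : (t * u) • a = a := by rw [mul_smul, hua, smul_smul_self ht.2.1]
  have h2 : (t * u) • c = c := by rw [mul_smul, (C.fix_iff c hu).2 rfl, hc]
  have hua' : u • (t • a) = a := by rw [← hua, smul_smul_self (C.invol hu).2]
  refine ⟨⟨fun h => ?_, ?_, a, c, fun e => ha (e ▸ hc), h1, h2⟩, h1,
    by rw [mul_smul, hua'], h2⟩
  · obtain ⟨p, q, hpq, hp, hq⟩ := ht.2.2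
    have h3 : t = u := by rw [← inv_eq_self' (C.invol hu).2]; exact eq_inv_of_mul_eq_one_left h
    rw [h3] at hp hq
    exact hpq (((C.fix_iff p hu).1 hp).trans ((C.fix_iff q hu).1 hq).symm)
  · have hcm := C.comm_fix ht hc hu
    calc t * u * (t * u) = t * (u * t) * u := by group
      _ = (t * t) * (u * u) := by rw [← hcm]; group
      _ = 1 := by rw [ht.2.1, (C.invol hu).2, one_mul]

theorem middle_unique {t : G} (ht : BadInv Ω t) {a c c' : Ω} {u u' : G} (ha : t • a ≠ a)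
    (hc : t • c = c) (hu : u ∈ C.X c) (hua : u • a = t • a) (hc' : t • c' = c') (hu' : u' ∈ C.X c')
    (hua' : u' • a = t • a) : c = c' ∧ u = u' := by
  obtain ⟨b1, a1, t1, -⟩ := C.middle_bad ht ha hc hu hua
  obtain ⟨b2, a2, t2, c2⟩ := C.middle_bad ht ha hc' hu' hua'
  have hF := C.meet b1 b2 (Ne.symm ha) a1 t1 a2 t2
  have h3 : (t * u) • c' = c' := by
    have : c' ∈ fixedBy Ω (t * u) := hF ▸ c2
    exact this
  have h4 : u • c' = c' := by
    rw [← hc', mul_smul] at h3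
    have := MulAction.injective t h3
    rwa [hc'] at this
  obtain rfl : c' = c := (C.fix_iff c' hu).1 h4
  refine ⟨rfl, by_contra fun hne => ?_⟩
  have hw := C.mul_mem hu hu' hne
  have : (u * u') • a = a := by rw [mul_smul, hua', ← hua, smul_smul_self (C.invol hu).2]
  exact ha ((C.fix_iff a hw).1 this ▸ hc)

theorem bad_mul {t : G} (ht : BadInv Ω t) {c : Ω} {x : G} (hc : t • c = c) (hx : x ∈ C.X c) :
    BadInv Ω (t * x) := by
  obtain ⟨a, ha⟩ := C.moves ht
  obtain ⟨c0, u0, hc0, hu0, hua⟩ := C.exists_middle ht.2.1 ha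
  obtain ⟨g, hg, -, hgx⟩ := C.torus ht hc0 hc hu0 hx
  have h := (C.middle_bad ht ha hc0 hu0 hua).1.conj g
  rwa [show g * (t * u0) * g⁻¹ = t * x by
    rw [← mul_assoc, hg, mul_assoc t g u0, mul_assoc, hgx]] at h

theorem isConj_mul_mul {t : G} (ht : BadInv Ω t) {c : Ω} {x y : G} (hc : t • c = c)
    (hx : x ∈ C.X c) (hy : y ∈ C.X c) : IsConj (t * x) (t * y) := by
  obtain ⟨g, hg, -, hgx⟩ := C.torus ht hc hc hx hy
  refine isConj_iff.2 ⟨g, ?_⟩
  rw [← mul_assoc, hg, mul_assoc t g x, mul_assoc, hgx]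

theorem isConj_mul {t : G} (ht : BadInv Ω t) {c : Ω} {x : G} (hc : t • c = c) (hx : x ∈ C.X c) :
    IsConj t (t * x) := by
  obtain ⟨y, hy, hne⟩ := Set.exists_ne_of_one_lt_ncard (s := C.X c) (by have := C.three_le_card c; omega) x
  have hb := C.bad_mul ht hc hx
  have hbc : (t * x) • c = c := by rw [mul_smul, (C.fix_iff c hx).2 rfl, hc]
  have h := C.isConj_mul_mul hb hbc hx (C.mul_mem hx hy hne.symm)
  rw [mul_assoc, (C.invol hx).2, mul_one, mul_assoc, ← mul_assoc x x, (C.invol hx).2, one_mul] at h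
  exact h.trans (C.isConj_mul_mul ht hc hy hx)

/-- The points moved by a bad involution. -/
theorem card_moved [Finite G] [Finite Ω] {t : G} (ht : BadInv Ω t) :
    Nat.card {a : Ω // t • a ≠ a} = ((2 ^ C.e) ^ 2 + 1) * ((2 ^ C.e - 1) * (2 ^ C.e) ^ 2) := by
  classical
  let f : (Σ c : fixedBy Ω t, Σ u : C.X c.1, ↥(fixedBy Ω (t * u.1) \ {c.1})) → {a : Ω // t • a ≠ a} :=
    fun p => ⟨p.2.2.1, fun h => by
      obtain ⟨⟨c, hc⟩, ⟨u, hu⟩, a, ha, hac⟩ := p
      have h1 : u • a = a := by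
        have h2 : t • u • a = a := by rw [← mul_smul]; exact ha
        have := congrArg (t • ·) h2
        simp only [smul_smul_self ht.2.1] at this
        exact this.trans h
      exact hac ((C.fix_iff a hu).1 h1)⟩
  have hf : ∀ p, p.2.1.1 • (f p).1 = t • (f p).1 := fun p => by
    have h2 : t • p.2.1.1 • p.2.2.1 = p.2.2.1 := by rw [← mul_smul]; exact p.2.2.2.1
    have := congrArg (t • ·) h2
    simp only [smul_smul_self ht.2.1] at this
    exact this
  have hbij : Function.Bijective f := by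
    constructor
    · intro p p' hpp
      have h := hf p
      rw [hpp] at h
      obtain ⟨h1, h2⟩ := C.middle_unique ht (f p').2 p.1.2 p.2.1.2 h p'.1.2 p'.2.1.2 (hf p')
      obtain ⟨⟨c, hc⟩, ⟨u, hu⟩, a, ha⟩ := p
      obtain ⟨⟨c', hc'⟩, ⟨u', hu'⟩, a', ha'⟩ := p'
      dsimp only at h1 h2
      subst h1 h2
      have : a = a' := congrArg Subtype.val hpp
      subst this
      rfl
    · rintro ⟨a, ha⟩
      obtain ⟨c, u, hc, hu, hua⟩ := C.exists_middle ht.2.1 ha
      refine ⟨⟨⟨c, hc⟩, ⟨u, hu⟩, a, (C.middle_bad ht ha hc hu hua).2.1, fun e => ha ?_⟩, rfl⟩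
      rw [Set.mem_singleton_iff.1 e]
      exact hc
  have hin : ∀ (c : fixedBy Ω t) (u : C.X c.1),
      Nat.card ↥(fixedBy Ω (t * u.1) \ {c.1}) = (2 ^ C.e) ^ 2 := fun c u => by
    have hb := C.bad_mul ht c.2 u.2
    rw [Nat.card_coe_set_eq, Set.ncard_diff_singleton_of_mem, C.card_fix hb, Nat.add_sub_cancel]
    show (t * u.1) • c.1 = c.1
    rw [mul_smul, (C.fix_iff c.1 u.2).2 rfl, c.2]
  haveI := Fintype.ofFinite Ω
  haveI := Fintype.ofFinite G
  rw [← Nat.card_eq_of_bijective f hbij, Nat.card_sigma]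
  have hmid : ∀ c : fixedBy Ω t,
      Nat.card (Σ u : C.X c.1, ↥(fixedBy Ω (t * u.1) \ {c.1})) = (2 ^ C.e - 1) * (2 ^ C.e) ^ 2 :=
    fun c => by
      rw [Nat.card_sigma, Finset.sum_congr rfl fun u _ => hin c u, Finset.sum_const,
        Finset.card_univ, ← Nat.card_eq_fintype_card, Nat.card_coe_set_eq, C.card_X, smul_eq_mul]
  rw [Finset.sum_congr rfl fun c _ => hmid c, Finset.sum_const, Finset.card_univ,
    ← Nat.card_eq_fintype_card, Nat.card_coe_set_eq, C.card_fix ht, smul_eq_mul]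

end Config

/-- The lines. -/
abbrev LineOf (G Ω : Type*) [Group G] [MulAction G Ω] : Type _ :=
  {s : Set Ω // ∃ t : G, BadInv Ω t ∧ fixedBy Ω t = s}

/-- The line of a bad involution. -/
def lineMk {t : G} (ht : BadInv Ω t) : LineOf G Ω := ⟨fixedBy Ω t, t, ht, rfl⟩

theorem line_smul_mem (g : G) {s : Set Ω} (h : ∃ t : G, BadInv Ω t ∧ fixedBy Ω t = s) :
    ∃ t : G, BadInv Ω t ∧ fixedBy Ω t = g • s := by
  obtain ⟨t, ht, rfl⟩ := h
  exact ⟨g * t * g⁻¹, ht.conj g, (smul_fixedBy Ω t g).symm⟩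

/-- Translation of lines. -/
def lineMap (g : G) : LineOf G Ω ≃ LineOf G Ω where
  toFun m := ⟨g • m.1, line_smul_mem g m.2⟩
  invFun m := ⟨g⁻¹ • m.1, line_smul_mem g⁻¹ m.2⟩
  left_inv m := Subtype.ext (inv_smul_smul g m.1)
  right_inv m := Subtype.ext (smul_inv_smul g m.1)

/-- The number of points of a line collinear with an outside point. -/
noncomputable def linked (a : Ω) (m : LineOf G Ω) : ℕ :=
  Nat.card {p : {p // p ∈ m.1} // ∃ m' : LineOf G Ω, a ∈ m'.1 ∧ p.1 ∈ m'.1}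

/-- Two lines are conjugate. -/
def LineConj (m m' : LineOf G Ω) : Prop := ∃ g : G, g • m.1 = m'.1

theorem LineConj.refl (m : LineOf G Ω) : LineConj m m := ⟨1, one_smul _ _⟩

theorem LineConj.symm {m m' : LineOf G Ω} (h : LineConj m m') : LineConj m' m := by
  obtain ⟨g, hg⟩ := h
  exact ⟨g⁻¹, by rw [← hg, inv_smul_smul]⟩

theorem LineConj.trans {m m' m'' : LineOf G Ω} (h : LineConj m m') (h' : LineConj m' m'') :
    LineConj m m'' := by
  obtain ⟨g, hg⟩ := h
  obtain ⟨g', hg'⟩ := h'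
  exact ⟨g' * g, by rw [mul_smul, hg, hg']⟩

theorem lineConj_of_isConj {t t' : G} (ht : BadInv Ω t) (ht' : BadInv Ω t') (h : IsConj t t') :
    LineConj (lineMk ht) (lineMk ht') := by
  obtain ⟨g, hg⟩ := isConj_iff.1 h
  exact ⟨g, by simp only [lineMk, smul_fixedBy, hg]⟩

namespace Config

variable (C : Config G Ω)
include C

theorem line_ncard (m : LineOf G Ω) : m.1.ncard = (2 ^ C.e) ^ 2 + 1 := by
  obtain ⟨t, ht, h⟩ := m.2
  rw [← h, C.card_fix ht]

theorem line_meet {a b : Ω} {m m' : LineOf G Ω} (hab : a ≠ b) (ha : a ∈ m.1) (hb : b ∈ m.1)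
    (ha' : a ∈ m'.1) (hb' : b ∈ m'.1) : m = m' := by
  obtain ⟨t, ht, h⟩ := m.2
  obtain ⟨t', ht', h'⟩ := m'.2
  rw [← h] at ha hb
  rw [← h'] at ha' hb'
  exact Subtype.ext (by rw [← h, ← h', C.meet ht ht' hab ha hb ha' hb'])

theorem transitive_off {t : G} (ht : BadInv Ω t) {a a' : Ω} (ha : t • a ≠ a) (ha' : t • a' ≠ a') :
    ∃ g : G, g • fixedBy Ω t = fixedBy Ω t ∧ g • a = a' := by
  obtain ⟨c, u, hc, hu, hua⟩ := C.exists_middle ht.2.1 ha
  obtain ⟨c', u', hc', hu', hua'⟩ := C.exists_middle ht.2.1 ha'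
  obtain ⟨g, hg, hgc, hgu⟩ := C.torus ht hc hc' hu hu'
  have hga : u' • g • a = t • g • a := by
    rw [← hgu, mul_smul, inv_smul_smul, mul_smul, hua, smul_comm_of_commute hg]
  have hmov : t • g • a ≠ g • a := by
    rw [← smul_comm_of_commute hg]
    exact fun e => ha (MulAction.injective g e)
  obtain ⟨hb, hb1, -, hb3⟩ := C.middle_bad ht hmov hc' hu' hga
  obtain ⟨-, hb1', -, -⟩ := C.middle_bad ht ha' hc' hu' hua'
  obtain ⟨h, hh, hhx, hha⟩ := C.regular hb hb3 hb1 hb1' (fun e => hmov (e ▸ hc'))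
    (fun e => ha' (e ▸ hc'))
  have hht : h * t = t * h := by
    have h1 : t = t * u' * u' := by rw [mul_assoc, (C.invol hu').2, mul_one]
    calc h * t = h * (t * u') * u' := by rw [mul_assoc h, ← h1]
      _ = (t * u') * (h * u') := by rw [hh, mul_assoc]
      _ = (t * u') * (u' * h) := by rw [hhx u' hu']
      _ = t * h := by rw [← mul_assoc, ← h1]
  refine ⟨h * g, ?_, by rw [mul_smul, hha]⟩
  have hcomm : h * g * t = t * (h * g) := by rw [mul_assoc, hg, ← mul_assoc, hht, mul_assoc]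
  rw [smul_fixedBy, hcomm, mul_inv_cancel_right]

/-- The number of lines through a point does not depend on the point. -/
theorem card_star [Finite Ω] (a b : Ω) :
    Nat.card {m : LineOf G Ω // a ∈ m.1} = Nat.card {m : LineOf G Ω // b ∈ m.1} := by
  obtain ⟨g, rfl⟩ := C.trans a b
  exact Nat.card_congr ((lineMap g).subtypeEquiv fun m => Set.smul_mem_smul_set_iff.symm)

theorem linked_eq (m : LineOf G Ω) {a a' : Ω} (ha : a ∉ m.1) (ha' : a' ∉ m.1) :
    linked a m = linked a' m := by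
  obtain ⟨t, ht, h⟩ := m.2
  rw [← h] at ha ha'
  obtain ⟨g, hg, rfl⟩ := C.transitive_off ht ha ha'
  rw [h] at hg
  refine Nat.card_congr (Equiv.subtypeEquiv ((MulAction.toPerm g).subtypeEquiv fun p => ?_)
    fun p => ?_)
  · conv_rhs => rw [← hg]
    exact Set.smul_mem_smul_set_iff.symm
  · refine (lineMap g).exists_congr fun m' => ?_
    exact and_congr Set.smul_mem_smul_set_iff.symm Set.smul_mem_smul_set_iff.symm

theorem linked_count [Finite G] [Finite Ω] (m : LineOf G Ω) (α r : ℕ)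
    (hα : ∀ a, a ∉ m.1 → linked a m = α) (hr : ∀ a, Nat.card {n : LineOf G Ω // a ∈ n.1} = r) :
    Nat.card {a // a ∉ m.1} * α = ((2 ^ C.e) ^ 2 + 1) * ((r - 1) * (2 ^ C.e) ^ 2) := by
  classical
  haveI := Fintype.ofFinite Ω
  haveI := Fintype.ofFinite (LineOf G Ω)
  let R := Σ p : {p // p ∈ m.1}, Σ n : {n : {n : LineOf G Ω // p.1 ∈ n.1} // n ≠ ⟨m, p.2⟩},
    {a // a ∈ n.1.1.1 ∧ a ≠ p.1}
  let L := Σ a : {a // a ∉ m.1},
    {p : {p // p ∈ m.1} // ∃ m' : LineOf G Ω, a.1 ∈ m'.1 ∧ p.1 ∈ m'.1}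
  let f : R → L := fun x => ⟨⟨x.2.2.1, fun h => x.2.1.2 (Subtype.ext
      (C.line_meet x.2.2.2.2 x.2.2.2.1 x.2.1.1.2 h x.1.2))⟩, x.1, x.2.1.1.1, x.2.2.2.1, x.2.1.1.2⟩
  have hbij : Function.Bijective f := by
    constructor
    · rintro ⟨p, ⟨⟨n, hn⟩, hnm⟩, a, ha, hap⟩ ⟨p', ⟨⟨n', hn'⟩, hnm'⟩, a', ha', hap'⟩ h
      have h1 : a = a' := congrArg (fun x : L => x.1.1) h
      have h2 : p.1 = p'.1 := congrArg (fun x : L => x.2.1.1) h
      subst h1
      obtain rfl : p = p' := Subtype.ext h2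
      obtain rfl : n = n' := C.line_meet hap ha hn ha' hn'
      rfl
    · rintro ⟨⟨a, ha⟩, p, m', ha', hp'⟩
      refine ⟨⟨p, ⟨⟨m', hp'⟩, fun e => ha ?_⟩, a, ha', fun e => ha (e ▸ p.2)⟩, rfl⟩
      have e' : m' = m := congrArg Subtype.val e
      rw [← e']
      exact ha'
  have h1 : Nat.card L = Nat.card {a // a ∉ m.1} * α := by
    rw [Nat.card_sigma, Finset.sum_congr rfl fun a _ => hα a.1 a.2, Finset.sum_const,
      Finset.card_univ, ← Nat.card_eq_fintype_card, smul_eq_mul]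
  have hin : ∀ (p : {p // p ∈ m.1}) (n : {n : {n : LineOf G Ω // p.1 ∈ n.1} // n ≠ ⟨m, p.2⟩}),
      Nat.card {a // a ∈ n.1.1.1 ∧ a ≠ p.1} = (2 ^ C.e) ^ 2 := fun p n => by
    show Nat.card ↥(n.1.1.1 \ {p.1}) = _
    rw [Nat.card_coe_set_eq, Set.ncard_diff_singleton_of_mem n.1.2, C.line_ncard,
      Nat.add_sub_cancel]
  have hmid : ∀ p : {p // p ∈ m.1}, Nat.card (Σ n : {n : {n : LineOf G Ω // p.1 ∈ n.1} //
      n ≠ ⟨m, p.2⟩}, {a // a ∈ n.1.1.1 ∧ a ≠ p.1}) = (r - 1) * (2 ^ C.e) ^ 2 := fun p => by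
    rw [Nat.card_sigma, Finset.sum_congr rfl fun n _ => hin p n, Finset.sum_const, smul_eq_mul,
      Finset.card_univ, Fintype.card_subtype_compl, Fintype.card_subtype_eq,
      ← Nat.card_eq_fintype_card, hr]
  have h2 : Nat.card R = ((2 ^ C.e) ^ 2 + 1) * ((r - 1) * (2 ^ C.e) ^ 2) := by
    rw [Nat.card_sigma, Finset.sum_congr rfl fun p _ => hmid p, Finset.sum_const, smul_eq_mul,
      Finset.card_univ, ← Nat.card_eq_fintype_card]
    congr 1
    exact (Nat.card_coe_set_eq _).trans (C.line_ncard m)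
  rw [← h1, ← h2, Nat.card_eq_of_bijective f hbij]

theorem lineConj_of_commute {t j : G} (ht : BadInv Ω t) (hj : BadInv Ω j) (h : t * j = j * t) :
    LineConj (lineMk ht) (lineMk hj) := by
  by_cases hall : ∀ a ∈ fixedBy Ω j, t • a = a
  · obtain ⟨a, b, hab, ha, hb⟩ := hj.2.2
    rw [show lineMk ht = lineMk hj from
      Subtype.ext (C.meet ht hj hab (hall a ha) (hall b hb) ha hb)]
    exact LineConj.refl _
  · push Not at hall
    obtain ⟨a, ha, hta⟩ := hall
    obtain ⟨c, u, hc, hu, hua⟩ := C.exists_middle ht.2.1 hta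
    obtain ⟨hb, h1, h2, -⟩ := C.middle_bad ht hta hc hu hua
    have hja : j • (t • a) = t • a := by rw [← smul_comm_of_commute h, ha]
    have heq : lineMk hb = lineMk hj :=
      Subtype.ext (C.meet hb hj (Ne.symm hta) h1 h2 ha hja)
    rw [← heq]
    exact lineConj_of_isConj ht hb (C.isConj_mul ht hc hu)

theorem odd_card [Finite G] [Finite Ω] {t : G} (ht : BadInv Ω t) : ¬ 2 ∣ Nat.card Ω := by
  classical
  have h := C.card_moved ht
  have hsum : Nat.card Ω = (fixedBy Ω t).ncard + Nat.card {a : Ω // t • a ≠ a} := by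
    rw [← Nat.card_coe_set_eq, ← Nat.card_sum]
    exact Nat.card_congr (Equiv.sumCompl _).symm
  have he : Even ((2 ^ C.e) ^ 2) := by
    rw [← pow_mul]
    exact (Nat.even_pow' (by have := C.e_ge; omega)).2 even_two
  rw [hsum, h, C.card_fix ht, ← even_iff_two_dvd, Nat.not_even_iff_odd]
  exact he.add_one.add_even ((he.mul_left _).mul_left _)

theorem lineConj_of_disjoint [Finite G] [Finite Ω] {t t' : G} (ht : BadInv Ω t)
    (ht' : BadInv Ω t') (hdis : ∀ a : Ω, t • a = a → t' • a ≠ a) :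
    LineConj (lineMk ht) (lineMk ht') := by
  classical
  have hti := inv_eq_self' ht.2.1
  have hti' := inv_eq_self' ht'.2.1
  set d := t * t' with hd
  have hinv : d⁻¹ = t' * t := by rw [hd, mul_inv_rev, hti, hti']
  have htd : ∀ m : ℕ, t * d ^ m * t = (d ^ m)⁻¹ := fun m => by
    have h1 : t * d * t = d⁻¹ := by rw [hinv, hd, ← mul_assoc, ht.2.1, one_mul]
    have h2 := conj_pow (i := m) (a := t) (b := d)
    rw [hti, h1, inv_pow] at h2
    exact h2.symm
  rcases Nat.even_or_odd (orderOf d) with ⟨m, hm⟩ | ⟨k, hk⟩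
  · set j := d ^ m with hj
    have hj2 : j * j = 1 := by rw [hj, ← pow_add, ← hm, pow_orderOf_eq_one]
    have hj1 : j ≠ 1 := by
      intro e
      have hd0 := orderOf_pos d
      have := Nat.le_of_dvd (by omega) (orderOf_dvd_of_pow_eq_one e)
      omega
    have htj : t * j = j * t := by
      have := htd m
      rw [← hj, inv_eq_self' hj2] at this
      calc t * j = t * j * t * t := by rw [mul_assoc _ t t, ht.2.1, mul_one]
        _ = j * t := by rw [this]
    have hdj : d * j = j * d := by rw [hj]; exact (Commute.self_pow d m).eq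
    have htj' : t' * j = j * t' := by
      have e : t' = t * d := by rw [hd, ← mul_assoc, ht.2.1, one_mul]
      rw [e, mul_assoc, hdj, ← mul_assoc, htj, mul_assoc]
    haveI := Fintype.ofFinite Ω
    haveI : Fact (Nat.Prime 2) := ⟨Nat.prime_two⟩
    obtain ⟨c, hc⟩ := Equiv.Perm.exists_fixed_point_of_prime (p := 2) (n := 1)
      (α := Ω) (σ := MulAction.toPermHom G Ω j)
      (by rw [← Nat.card_eq_fintype_card]; exact C.odd_card ht)
      (by rw [pow_one, ← map_pow, pow_two, hj2, map_one])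
    have hc' : j • c = c := hc
    by_cases hjb : BadInv Ω j
    · exact (C.lineConj_of_commute ht hjb htj).trans (C.lineConj_of_commute ht' hjb htj').symm
    · have hone : ∀ b : Ω, j • b = b → b = c := fun b hb =>
        by_contra fun e => hjb ⟨hj1, hj2, b, c, e, hb, hc'⟩
      exact absurd (hone _ (by rw [← smul_comm_of_commute htj', hc']))
        (hdis c (hone _ (by rw [← smul_comm_of_commute htj, hc'])))
  · refine lineConj_of_isConj ht ht' (isConj_iff.2 ⟨d ^ k, ?_⟩)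
    have hdn : d ^ (k + k) * d = 1 := by
      rw [← pow_succ, show k + k + 1 = 2 * k + 1 by ring, ← hk, pow_orderOf_eq_one]
    have h1 : d ^ k * t = t * (d ^ k)⁻¹ := by
      rw [← htd, ← mul_assoc, ← mul_assoc, ht.2.1, one_mul]
    rw [h1, mul_assoc, ← mul_inv_rev, ← pow_add, inv_eq_of_mul_eq_one_right hdn, hd, ← mul_assoc,
      ht.2.1, one_mul]

end Config

/-- There is no such configuration. -/
theorem Config.false_of_bad [Finite G] [Finite Ω] (C : Config G Ω) {t : G} (ht : BadInv Ω t) :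
    False := by
  classical
  haveI := Fintype.ofFinite Ω
  haveI := Fintype.ofFinite (LineOf G Ω)
  obtain ⟨a0, ha0⟩ := C.moves ht
  let m0 : LineOf G Ω := lineMk ht
  set q := 2 ^ C.e with hq
  have hq8 : 8 ≤ q := le_trans (by norm_num) (Nat.pow_le_pow_right (show 2 > 0 by norm_num) C.e_ge)
  set r := Nat.card {m : LineOf G Ω // a0 ∈ m.1} with hr0
  have hr : ∀ a, Nat.card {m : LineOf G Ω // a ∈ m.1} = r := fun a => C.card_star a a0
  -- the points outside a line
  have hout : ∀ m : LineOf G Ω, Nat.card {a // a ∉ m.1} = (q ^ 2 + 1) * ((q - 1) * q ^ 2) := by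
    rintro ⟨s, t1, ht1, rfl⟩
    exact C.card_moved ht1
  have hnpos : 0 < (q ^ 2 + 1) * ((q - 1) * q ^ 2) := by
    have : 0 < q - 1 := by omega
    positivity
  set α := linked a0 m0 with hα0
  have hm0 : a0 ∉ m0.1 := ha0
  have hcount : ∀ m : LineOf G Ω, ∀ a, a ∉ m.1 →
      linked a m * (q - 1) = r - 1 := by
    intro m a ha
    have h := C.linked_count m (linked a m) r (fun b hb => C.linked_eq m hb ha) hr
    rw [hout m] at h
    apply Nat.eq_of_mul_eq_mul_left (show 0 < (q ^ 2 + 1) * q ^ 2 by positivity)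
    linear_combination h
  have hoff : ∀ a (m : LineOf G Ω), a ∉ m.1 → linked a m = α := fun a m ha =>
    Nat.eq_of_mul_eq_mul_right (show 0 < q - 1 by omega)
      ((hcount m a ha).trans (hcount m0 a0 hm0).symm)
  have hαpos : 0 < α := by
    obtain ⟨c, u, hc, hu, hua⟩ := C.exists_middle ht.2.1 ha0
    obtain ⟨hb, h1, -, h3⟩ := C.middle_bad ht ha0 hc hu hua
    exact Nat.card_pos_iff.2 ⟨⟨⟨⟨c, hc⟩, lineMk hb, h1, h3⟩⟩, inferInstance⟩
  have hra : r = 1 + α * (q - 1) := by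
    have h := hcount m0 a0 hm0
    rw [← hα0] at h
    have : 0 < α * (q - 1) := Nat.mul_pos hαpos (by omega)
    omega
  have hD : (q ^ 2 + 1) + r = (q ^ 2 + 1 + (q - 2) * α) + α + 1 := by
    rw [hra, show q - 1 = q - 2 + 1 by omega]
    ring
  -- integrality
  have hdvd := design_dvd (fun (a : Ω) (m : LineOf G Ω) => a ∈ m.1) (q ^ 2 + 1) r α
    (q ^ 2 + 1 + (q - 2) * α) hD (by positivity)
    (fun m => by rw [hq, ← C.line_ncard m]; exact Nat.card_coe_set_eq _) hr
    (fun a b m m' hab h1 h2 h3 h4 => C.line_meet hab h1 h2 h3 h4) hoff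
    (fun a => t • a) (fun a => smul_smul_self ht.2.1 a) (lineMap t)
    (fun a m => Set.smul_mem_smul_set_iff)
    (by rw [hq, ← C.card_fix ht, ← Nat.card_coe_set_eq]; rfl)
    (fun a ha => by
      obtain ⟨c, u, hc, hu, hua⟩ := C.exists_middle ht.2.1 ha
      obtain ⟨hb, h1, h2, -⟩ := C.middle_bad ht ha hc hu hua
      exact ⟨lineMk hb, h1, h2⟩)
  have hn : Nat.card Ω = (q ^ 2 + 1) + (q ^ 2 + 1) * ((q - 1) * q ^ 2) := by
    rw [← hout m0, hq, ← C.line_ncard m0, ← Nat.card_coe_set_eq, ← Nat.card_sum]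
    exact Nat.card_congr (Equiv.sumCompl _).symm
  have hn' : (Nat.card Ω : ℤ) - ((q ^ 2 + 1 : ℕ) : ℤ) =
      (((q ^ 2 + 1) * ((q - 1) * q ^ 2) : ℕ) : ℤ) := by
    rw [hn, Nat.cast_add (q ^ 2 + 1) ((q ^ 2 + 1) * ((q - 1) * q ^ 2)), add_sub_cancel_left]
  rw [hn', Int.natCast_dvd_natCast] at hdvd
  have hα : α = q ^ 2 + 1 := alpha_eq C.e_odd C.e_ge hαpos (by
    rw [← hq]
    convert hdvd using 1
    ring)
  -- a line missing two given lines
  have hfar : ∀ m m' : LineOf G Ω, ∃ n : LineOf G Ω,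
      (∀ a ∈ n.1, a ∉ m.1) ∧ (∀ a ∈ n.1, a ∉ m'.1) := by
    intro m m'
    obtain ⟨b, -, hbm, hbm'⟩ : ∃ b ∈ (Set.univ : Set Ω), b ∉ m.1 ∧ b ∉ m'.1 := by
      by_contra hcon
      push Not at hcon
      have h1 : Nat.card {a // a ∉ m.1} ≤ m'.1.ncard := by
        rw [← Nat.card_coe_set_eq]
        exact Nat.card_le_card_of_injective
          (fun a => ⟨a.1, hcon a.1 (Set.mem_univ _) a.2⟩)
          (fun a a' h => Subtype.ext (congrArg (fun x : m'.1 => x.1) h))
      rw [hout, C.line_ncard] at h1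
      have h2 : q ^ 2 + 1 < (q ^ 2 + 1) * ((q - 1) * q ^ 2) := by
        have : 1 < (q - 1) * q ^ 2 := by
          calc 1 < 7 * 1 := by norm_num
            _ ≤ (q - 1) * q ^ 2 := Nat.mul_le_mul (by omega) (Nat.one_le_pow _ _ (by omega))
        exact lt_mul_of_one_lt_right (by positivity) this
      rw [← hq] at h1
      omega
    by_contra hcon
    push Not at hcon
    have hsel : ∀ n : {n : LineOf G Ω // b ∈ n.1}, ∃ p : m.1 ⊕ m'.1,
        Sum.elim Subtype.val Subtype.val p ∈ n.1.1 := by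
      intro n
      by_cases h : ∀ a ∈ n.1.1, a ∉ m.1
      · obtain ⟨a, ha, ha'⟩ := hcon n.1 h
        exact ⟨Sum.inr ⟨a, ha'⟩, ha⟩
      · push Not at h
        obtain ⟨a, ha, ha'⟩ := h
        exact ⟨Sum.inl ⟨a, ha'⟩, ha⟩
    choose F hF using hsel
    have hinj : Function.Injective F := by
      intro n n' h
      have hne : b ≠ Sum.elim Subtype.val Subtype.val (F n) := by
        rcases F n with p | p
        · exact fun e => hbm (e ▸ p.2)
        · exact fun e => hbm' (e ▸ p.2)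
      exact Subtype.ext (C.line_meet hne n.2 (hF n) n'.2 (h ▸ hF n'))
    have h1 := Nat.card_le_card_of_injective F hinj
    rw [Nat.card_sum, Nat.card_coe_set_eq, Nat.card_coe_set_eq, C.line_ncard, C.line_ncard, hr,
      hra, hα, ← hq] at h1
    have : (q ^ 2 + 1) * 2 ≤ (q ^ 2 + 1) * (q - 1) := Nat.mul_le_mul_left _ (by omega)
    omega
  have hdisj : ∀ m n : LineOf G Ω, (∀ a ∈ n.1, a ∉ m.1) → LineConj m n := by
    rintro ⟨s, t1, ht1, rfl⟩ ⟨s', t2, ht2, rfl⟩ h
    exact C.lineConj_of_disjoint ht1 ht2 fun a ha ha' => h a ha' ha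
  have hall : ∀ m m' : LineOf G Ω, LineConj m m' := fun m m' => by
    obtain ⟨n, h1, h2⟩ := hfar m m'
    exact (hdisj m n h1).trans (hdisj m' n h2).symm
  -- the orbit of the stabiliser of a point
  obtain ⟨c, -, -, hc, -⟩ := ht.2.2
  let M := stabilizer G c
  have horb : orbit M m0.1 = {s : Set Ω | c ∈ s ∧ ∃ t : G, BadInv Ω t ∧ fixedBy Ω t = s} := by
    ext s
    constructor
    · rintro ⟨⟨g, hg⟩, rfl⟩
      refine ⟨?_, line_smul_mem g m0.2⟩
      rw [← mem_stabilizer_iff.1 hg]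
      exact Set.smul_mem_smul_set hc
    · rintro ⟨hcs, t', ht', rfl⟩
      obtain ⟨g, hg⟩ := hall m0 (lineMk ht')
      have hgc : g • c ∈ fixedBy Ω t' := by
        rw [← show g • m0.1 = fixedBy Ω t' from hg]
        exact Set.smul_mem_smul_set hc
      obtain ⟨x, hx⟩ := Set.nonempty_of_ncard_ne_zero (s := C.X (g • c)) (by
        have := C.three_le_card (g • c); omega)
      obtain ⟨y, hy⟩ := Set.nonempty_of_ncard_ne_zero (s := C.X c) (by
        have := C.three_le_card c; omega)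
      obtain ⟨h, hh, hhc, -⟩ := C.torus ht' hgc hcs hx hy
      refine ⟨⟨h * g, mem_stabilizer_iff.2 (by rw [mul_smul, hhc])⟩, ?_⟩
      show (h * g) • m0.1 = _
      rw [mul_smul, show g • m0.1 = fixedBy Ω t' from hg, smul_fixedBy, hh, mul_inv_cancel_right]
  have hcard : (orbit M m0.1).ncard = r := by
    rw [horb, ← hr c, ← Nat.card_coe_set_eq]
    exact Nat.card_congr
      { toFun := fun s => ⟨⟨s.1, s.2.2⟩, s.2.1⟩
        invFun := fun n => ⟨n.1.1, n.2, n.1.2⟩
        left_inv := fun _ => rfl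
        right_inv := fun _ => rfl }
  have hdvdG : r ∣ Nat.card G := by
    rw [← hcard, ← index_stabilizer]
    exact (Subgroup.index_dvd_card _).trans (Subgroup.card_subgroup_dvd_card _)
  refine C.three (dvd_trans ?_ hdvdG)
  have hmod : q % 3 = 2 := by
    obtain ⟨k, hk⟩ := C.e_odd
    rw [hq, hk, pow_succ, pow_mul, Nat.mul_mod, Nat.pow_mod]
    norm_num
  rw [hra, hα]
  obtain ⟨i, hi⟩ : ∃ i, q = 3 * i + 2 := ⟨q / 3, by omega⟩
  rw [hi, show 3 * i + 2 - 1 = 3 * i + 1 by omega]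
  exact ⟨9 * i ^ 3 + 15 * i ^ 2 + 9 * i + 2, by ring⟩

end Cfsg.Agent.ThreePrime74
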