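import Cfsg.Agent.ThreePrime72.Defs
import Cfsg.Agent.ThreePrime74.Comp
import Cfsg.Agent.PN72.Strong
import Cfsg.Agent.Lib.Thompson.Cores

/-!
Piece Glue of the classification of simple groups of order prime to three: if the proper subgroup
`M` is `N(A)`, no involution has two fixed points on its cosets.
-/

set_option autoImplicit false

namespace Cfsg.Agent.ThreePrime74

open MulAction Subgroup ThreePrime72

universe u

/-- The facts on the Suzuki groups used by the geometry. -/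
def SzLineFacts : Prop :=
  ∀ (L : Type u) [Group L] (U : Subgroup L), IsSzU L U →
    {Y : Subgroup L | ∃ l, cj U l = Y}.ncard = Nat.card U ^ 2 + 1 ∧
    (∀ l m : L, cj U l ≠ U → ∃ g ∈ U ⊔ cj U l, cj U g = cj U m) ∧
    (∀ x ∈ U, ∀ y ∈ U, x ≠ 1 → y ≠ 1 → ∃ l : L, cj U l = U ∧ l * x * l⁻¹ = y) ∧
    ∀ l m : L, cj U l ≠ U → cj U m ≠ U →
      ∃ c : L, (∀ x ∈ U, c * x * c⁻¹ = x) ∧ cj U (c * l) = cj U m

section

variable {G Q L : Type*} [Group G] [Group Q] [Group L]

theorem map_cj (ψ : L →* Q) (U : Subgroup L) (l : L) : (cj U l).map ψ = cj (U.map ψ) (ψ l) := by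
  rw [cj, cj, Subgroup.map_map, Subgroup.map_map]
  congr 1
  ext x
  simp

theorem card_image_eq [Finite G] {A : Subgroup G} {t : G} (hA : A ≤ centralizer ({t} : Set G))
    (φ : centralizer ({t} : Set G) →* Q)
    (hinj : ∀ a : centralizer ({t} : Set G), (a : G) ∈ A → φ a = 1 → a = 1) :
    Nat.card (image A φ) = Nat.card A := by
  rw [← Nat.card_congr (subgroupOfEquivOfLe hA).toEquiv]
  refine (Nat.card_eq_of_bijective (fun x : A.subgroupOf (centralizer ({t} : Set G)) =>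
    (⟨φ x.1, x.1, x.2, rfl⟩ : image A φ)) ⟨fun x y h => ?_, ?_⟩).symm
  · have h1 : φ ((x.1)⁻¹ * y.1) = 1 := by
      rw [map_mul, map_inv, show φ x.1 = φ y.1 from congrArg Subtype.val h, inv_mul_cancel]
    exact Subtype.ext (inv_mul_eq_one.1 (hinj _ (A.mul_mem (A.inv_mem x.2) y.2) h1))
  · rintro ⟨_, x, hx, rfl⟩
    exact ⟨⟨x, hx⟩, rfl⟩

end

/-- The layer of `C(t)` gives a component of Suzuki type. -/
theorem exists_comp {G : Type u} [Group G] [Finite G] (hsz : SzLineFacts.{u}) {A K : Subgroup G}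
    {t : G} (hel : Cfsg.IsElementaryAbelian 2 A) (h3A : 3 ≤ Nat.card A)
    (hX : XData A (centralizer ({t} : Set G)) K)
    (hC : ∀ a ∈ A, a ≠ 1 → centralizer ({a} : Set G) ≤ normalizer (A : Set G))
    (hA : A ≤ centralizer ({t} : Set G)) :
    ∃ (Q : Type u) (_ : Group Q) (φ : centralizer ({t} : Set G) →* Q) (L : Subgroup Q),
      Comp A t (Nat.card A) φ L := by
  classical
  haveI : Fact (Nat.Prime 2) := ⟨Nat.prime_two⟩
  obtain ⟨L0, hL0, f, hfs, hker, hszu⟩ := hX.suz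
  obtain ⟨hcard0, hgen0, htor0, hreg0⟩ := hsz L0 _ hszu
  set X := centralizer ({t} : Set G) with hXdef
  set O := Cfsg.pPrimeCore 2 X with hO
  haveI : O.Normal := inferInstance
  have hOdd : ¬ 2 ∣ Nat.card O := Thompson.not_dvd_card_pPrimeCore
  -- the kernel centralises `A`
  have hOM : oddOf X ≤ normalizer (A : Set G) := by
    refine PN72.le_of_gen hel h3A (fun a ha => ?_) ?_ fun b hb hb1 => inf_le_right.trans (hC b hb hb1)
    · have h := (inferInstance : O.Normal)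
      rw [mem_normalizer_iff]
      intro x
      constructor
      · rintro ⟨k, hk, rfl⟩
        exact ⟨⟨a, hA ha⟩ * k * ⟨a, hA ha⟩⁻¹, h.conj_mem k hk _, rfl⟩
      · rintro ⟨k, hk, hke⟩
        refine ⟨⟨a, hA ha⟩⁻¹ * k * ⟨a, hA ha⟩, ?_, ?_⟩
        · simpa using h.conj_mem k hk (⟨a, hA ha⟩⁻¹ : X)
        · show a⁻¹ * (k : G) * a = x
          rw [show (k : G) = a * x * a⁻¹ from hke]
          group
    · rw [show Nat.card (oddOf X) = Nat.card O from card_map_of_injective X.subtype_injective]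
      exact hOdd
  have hAO : ∀ a : X, (a : G) ∈ A → a ∈ O → a = 1 := by
    intro a ha haO
    by_contra h1
    have h2 : orderOf a ∣ Nat.card O := by
      have h := orderOf_dvd_natCard (⟨a, haO⟩ : O)
      rwa [orderOf_mk] at h
    have h3 : orderOf a = 2 := by
      refine orderOf_eq_prime (Subtype.ext ?_) h1
      rw [SubgroupClass.coe_pow]
      exact hel.2 _ ha
    exact hOdd (h3 ▸ h2)
  have hcomm : ∀ k : X, k ∈ O → ∀ a ∈ A, Commute (k : G) a := by
    intro k hk a ha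
    set a' : X := ⟨a, hA ha⟩
    have hn : (k : G) ∈ normalizer (A : Set G) := hOM ⟨k, hk, rfl⟩
    have h1 : ((k * a' * k⁻¹ * a'⁻¹ : X) : G) ∈ A :=
      A.mul_mem ((mem_normalizer_iff.1 hn a).1 ha) (A.inv_mem ha)
    have h2 : k * a' * k⁻¹ * a'⁻¹ ∈ O := by
      rw [show k * a' * k⁻¹ * a'⁻¹ = k * (a' * k⁻¹ * a'⁻¹) by group]
      exact O.mul_mem hk ((inferInstance : O.Normal).conj_mem _ (O.inv_mem hk) _)
    have h3 : ((k * a' * k⁻¹ * a'⁻¹ : X) : G) = 1 := by rw [hAO _ h1 h2]; rfl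
    show (k : G) * a = a * k
    calc (k : G) * a = ((k : G) * a * (k : G)⁻¹ * a⁻¹) * (a * k) := by group
      _ = a * k := by
        rw [show (k : G) * a * (k : G)⁻¹ * a⁻¹ = 1 from h3, one_mul]
  -- the image of the layer
  set φ : X →* X ⧸ O := QuotientGroup.mk' O
  set g : K →* X ⧸ O := φ.comp (inclusion hX.le)
  have hfg : ∀ k : K, f k = 1 ↔ g k = 1 := by
    intro k
    rw [show g k = 1 ↔ inclusion hX.le k ∈ O from QuotientGroup.eq_one_iff _]
    constructor
    · intro h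
      have h1 : (k : G) ∈ oddOf X := by rw [← hker]; exact ⟨k, h, rfl⟩
      obtain ⟨x, hx, hxe⟩ := h1
      rwa [show inclusion hX.le k = x from Subtype.ext hxe.symm]
    · intro h
      have h1 : (k : G) ∈ f.ker.map K.subtype := by
        rw [hker]; exact ⟨_, h, rfl⟩
      obtain ⟨x, hx, hxe⟩ := h1
      rwa [show k = x from Subtype.ext hxe.symm]
  set ψ : L0 →* X ⧸ O := f.liftOfSurjective hfs ⟨g, fun k hk => (hfg k).1 hk⟩
  have hψ : ∀ k : K, ψ (f k) = g k := fun k =>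
    MonoidHom.liftOfRightInverse_comp_apply _ _ _ _ k
  have hψi : Function.Injective ψ := by
    rw [injective_iff_map_eq_one]
    intro x hx
    obtain ⟨k, rfl⟩ := hfs x
    exact (hfg k).2 (hψ k ▸ hx)
  set U := (A.subgroupOf K).map f with hU
  have hUimg : U.map ψ = image A φ := by
    ext y
    constructor
    · rintro ⟨_, ⟨a, ha, rfl⟩, rfl⟩
      exact ⟨inclusion hX.le a, ha, (hψ a).symm⟩
    · rintro ⟨a, ha, rfl⟩
      refine ⟨f ⟨a, hX.A_le ha⟩, ⟨_, ha, rfl⟩, ?_⟩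
      rw [hψ]
      rfl
  have hcj : ∀ l, (cj U l).map ψ = cj (image A φ) (ψ l) := fun l => by rw [map_cj, hUimg]
  have hUcard : Nat.card U = Nat.card A := by
    have h1 : Nat.card (U.map ψ) = Nat.card A := by
      rw [hUimg]
      exact card_image_eq hA φ fun a ha h => hAO a ha ((QuotientGroup.eq_one_iff a).1 h)
    rwa [card_map_of_injective hψi] at h1
  have hne : ∀ l, cj (image A φ) (ψ l) ≠ image A φ ↔ cj U l ≠ U := fun l => by
    rw [← hcj, ← hUimg, (map_injective hψi).ne_iff]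
  refine ⟨X ⧸ O, inferInstance, φ, ψ.range,
    { le := hA
      ker_odd := fun k hk => ?_
      ker_comm := fun k hk => hcomm k ((QuotientGroup.eq_one_iff k).1 hk)
      range := ?_
      absorb := fun x => ?_
      card := ?_
      gen := ?_
      tor := ?_
      reg := ?_ }⟩
  · rw [← Nat.not_even_iff_odd, even_iff_two_dvd]
    intro h
    have h2 := orderOf_dvd_natCard (⟨k, (QuotientGroup.eq_one_iff k).1 hk⟩ : O)
    rw [orderOf_mk] at h2
    exact hOdd (h.trans h2)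
  · rintro _ ⟨l, rfl⟩
    obtain ⟨k, rfl⟩ := hfs l
    exact ⟨inclusion hX.le k, (hψ k).symm⟩
  · obtain ⟨k, hk, n, hn, hnX, hxn⟩ := hX.decomp x x.2
    refine ⟨ψ (f ⟨k, hk⟩), ⟨_, rfl⟩, ?_⟩
    set n' : X := ⟨n, hnX⟩
    have hx : x = inclusion hX.le ⟨k, hk⟩ * n' := Subtype.ext hxn
    have hn1 : cj (image A φ) (φ n') = image A φ := by
      ext y
      rw [mem_cj]
      constructor
      · rintro ⟨a, ha, hae⟩
        refine ⟨n' * a * n'⁻¹, ?_, by rw [map_mul, map_mul, map_inv, hae]; group⟩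
        show n * (a : G) * n⁻¹ ∈ A
        exact (mem_normalizer_iff.1 hn _).1 ha
      · rintro ⟨a, ha, rfl⟩
        refine ⟨n'⁻¹ * a * n', ?_, by rw [map_mul, map_mul, map_inv]⟩
        show n⁻¹ * (a : G) * n ∈ A
        refine (mem_normalizer_iff.1 hn _).2 ?_
        rw [show n * (n⁻¹ * (a : G) * n) * n⁻¹ = a by group]
        exact ha
    rw [hx, map_mul, cj_mul, hn1, hψ]
    rfl
  · rw [← hUcard, ← hcard0, ← Set.ncard_image_of_injective {Y | ∃ l, cj U l = Y}
      (map_injective hψi)]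
    congr 1
    ext Y
    constructor
    · rintro ⟨_, ⟨l, rfl⟩, rfl⟩
      exact ⟨cj U l, ⟨l, rfl⟩, hcj l⟩
    · rintro ⟨_, ⟨l, rfl⟩, rfl⟩
      exact ⟨ψ l, ⟨l, rfl⟩, (hcj l).symm⟩
  · rintro _ ⟨l, rfl⟩ _ ⟨m, rfl⟩ h
    obtain ⟨y, hy, hym⟩ := hgen0 l m ((hne l).1 h)
    exact ⟨ψ y, by rw [← hUimg, ← map_cj, ← Subgroup.map_sup]; exact mem_map_of_mem ψ hy,
      by rw [← hcj, ← hcj, hym]⟩
  · intro x hx y hy hx1 hy1
    rw [← hUimg] at hx hy
    obtain ⟨x, hx, rfl⟩ := hx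
    obtain ⟨y, hy, rfl⟩ := hy
    obtain ⟨l, hl, hlx⟩ := htor0 x hx y hy (fun e => hx1 (by rw [e, map_one]))
      (fun e => hy1 (by rw [e, map_one]))
    exact ⟨ψ l, ⟨l, rfl⟩, by rw [← hcj, hl, hUimg], by rw [← hlx]; simp⟩
  · rintro _ ⟨l, rfl⟩ _ ⟨m, rfl⟩ h h'
    obtain ⟨c, hc, hcl⟩ := hreg0 l m ((hne l).1 h) ((hne m).1 h')
    refine ⟨ψ c, ⟨c, rfl⟩, fun x hx => ?_, by rw [← map_mul, ← hcj, ← hcj, hcl]⟩
    rw [← hUimg] at hx
    obtain ⟨x, hx, rfl⟩ := hx
    rw [← map_inv, ← map_mul, ← map_mul, hc x hx]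

/-- Piece Glue, from the Suzuki facts. -/
theorem glue_of (hsz : SzLineFacts.{u}) (hx : XDataStmt.{u}) (hfix : FixTransStmt.{u})
    (hloc : BadLocalStmt.{u}) : GlueStmt.{u} := by
  intro G _ _ hG S A M hB hM t
  subst hM
  set M := normalizer (A : Set G)
  obtain ⟨htr, -, hmov, ⟨e, he, he3, hcard⟩, -⟩ := hfix G hG S A M hB
  obtain ⟨hl1, hl2⟩ := hloc G hG S A M hB
  have hsq : ∀ x ∈ A, x * x = 1 := fun x hx => by
    have h := hB.elem.2 x hx
    rwa [pow_two] at h
  have hcomm : ∀ x ∈ A, ∀ y ∈ A, x * y = y * x := fun x hx y hy =>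
    congrArg Subtype.val (hB.elem.1.is_comm.comm (⟨x, hx⟩ : A) ⟨y, hy⟩)
  refine not_badInv_quotient (baseData_of_comp he he3 (stab_quotient A) (trans_quotient M) hcard
    hcomm hsq (fun x hx hx1 g hg => ?_)
    (fun x hx y hy hx1 hy1 g hg => hB.ctl.odd_mul hsq le_rfl hB.cle hx hx1 hy hy1 hg)
    (fun {t} ht _ => hmov t ht.1)
    (fun {t} ht ho a ha => ?_) (fun {t} ht ho => ?_) hG.three) t
  · have h := hB.ctl.key hsq le_rfl hB.cle hx hx1 (g := g⁻¹) (by rwa [inv_inv])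
    exact inv_mem_iff.1 h
  · obtain ⟨g, hg, hga⟩ := htr t ht.1 ht.2.1 _ a ho ha
    exact ⟨⟨g, mem_centralizer_singleton_iff.2 hg⟩, hga⟩
  · have htM : t ∈ M := (stab_quotient A).le (mem_stabilizer_iff.2 ho)
    obtain ⟨m, hm, hmA⟩ := hl2 t ht htM
    have hA : A ≤ centralizer ({t} : Set G) := by
      intro a ha
      have h1 : m * a * m⁻¹ * (m * t * m⁻¹) = m * t * m⁻¹ * (m * a * m⁻¹) :=
        mem_centralizer_singleton_iff.1 (hmA ((mem_normalizer_iff.1 hm a).1 ha))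
      refine mem_centralizer_singleton_iff.2 ?_
      calc a * t = m⁻¹ * (m * a * m⁻¹ * (m * t * m⁻¹)) * m := by group
        _ = t * a := by rw [h1]; group
    have htop : centralizer ({t} : Set G) ≠ ⊤ := by
      intro h
      have hz : t ∈ center G := mem_center_iff.2 fun g =>
        mem_centralizer_singleton_iff.1 (h ▸ mem_top g)
      haveI := hG.simple
      rcases (center G).normal_of_characteristic.eq_bot_or_eq_top with hb | hb
      · rw [hb, mem_bot] at hz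
        exact ht.1 hz
      · obtain ⟨a, b, hab⟩ := hG.nc
        exact hab (mem_center_iff.1 (hb ▸ mem_top b) a)
    obtain ⟨K, hK⟩ := hx G hG S A M hB _ hA htop (hl1 t ht hA).2.1
    rw [← hcard]
    exact exists_comp hsz hB.elem (le_trans (by norm_num) hB.big) hK hB.cle hA

end Cfsg.Agent.ThreePrime74
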